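import Groth.Agent.Lib.EtDiv3.Coprod
import Groth.Agent.Lib.EtPic3.CurveGmApply
import Groth.Agent.Lib.EtPic3.PushConst
import Groth.Agent.Lib.EtPic3.PushTorsion
import Groth.Agent.Lib.EtColim.Main
import Groth.Agent.Lib.AcyclicSum8.Sum
import Groth.Agent.Lib.RegLoc.UFD
import Groth.Agent.S0065

/-!
# Applications of the divisor sequence
-/

universe u

set_option autoImplicit false
set_option linter.style.haveILetI false
set_option backward.isDefEq.respectTransparency false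
set_option backward.isDefEq.respectTransparency.types false

open CategoryTheory CategoryTheory.Limits AlgebraicGeometry Opposite CategoryTheory.Abelian
open Groth.Agent.EtPic3 (IsMaxPt Killed posNat)

namespace Groth.Agent.EtDiv3

theorem etFactorial_of_regular (X : Scheme.{u}) [IsLocallyNoetherian X]
    (hreg : ∀ x : X, IsRegularLocalRing (X.presheaf.stalk x)) : EtFactorial X := by
  refine ⟨fun U => ?_⟩
  let f : U.left ⟶ X := U.hom
  haveI : AlgebraicGeometry.Etale f := U.prop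
  have h : ∀ u : U.left, IsRegularLocalRing (U.left.presheaf.stalk u) := fun u =>
    (Groth.Agent.S0065.result f u).2 (hreg _)
  exact ⟨fun u => by haveI := h u; exact RegLoc.isDomain _,
    fun u => by haveI := h u; exact RegLoc.ufd_of_isRegularLocalRing _⟩

theorem mono_and_cokernel_iso {X : Scheme.{u}} [IsLocallyNoetherian X] [EtFactorial X] [IsIntegral X]
    (c : Cofan fun x : Ix X => skyConst x.1 ℤ) (hc : IsColimit c) :
    Mono (EtLim.GmPush (X.fromSpecStalk (genericPoint X))) ∧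
      Nonempty (cokernel (EtLim.GmPush (X.fromSpecStalk (genericPoint X))) ≅ c.pt) := by
  haveI := isIso_comparison (genUnitsIntegral (X := X)) c hc
  exact ⟨mono_toJ genUnitsIntegral, ⟨(asIso (comparison (genUnitsIntegral (X := X)) c hc)).symm⟩⟩

section Noeth

variable {X : Scheme.{u}} [IsNoetherian X] [EtFactorial X] {P : Submonoid ℕ}

theorem killed_H_C {n : ℕ}
    (h : ∀ (x : Ix X) (z : EtCoh.H X (skyConst x.1 ℤ) n), Killed P z) (z : EtCoh.H X (C (genUnitsNoeth X)) n) :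
    Killed P z := by
  let F : Ix X → EtCoh.Ab X := fun x => skyConst x.1 ℤ
  haveI : HasCoproduct F := inferInstance
  haveI : PreservesColimitsOfShape (Finset (Discrete (Ix X))) (EtCoh.HF X n) :=
    EtColim.preservesColimitsOfShape_HF_small X n _
  haveI : (EtCoh.HF X n).Additive := by unfold EtCoh.HF; infer_instance
  haveI := AcyclicSum8.preservesColimit_discrete (EtCoh.HF X n) F
  let c : Cofan F := Cofan.mk (∐ F) (Sigma.ι F)
  have hc : IsColimit c := coproductIsCoproduct F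
  haveI := isIso_comparison (genUnitsNoeth X) c hc
  let e := asIso (comparison (genUnitsNoeth X) c hc)
  obtain ⟨T, a, ha⟩ := exists_finsum_of_isColimit (Cofan.mk ((EtCoh.HF X n).obj c.pt) fun x => (EtCoh.HF X n).map (Sigma.ι F x))
    (isColimitCofanMkObjOfIsColimit (EtCoh.HF X n) _ _ hc) ((EtCoh.HF X n).map e.inv z)
  have hz : z = (EtCoh.HF X n).map e.hom ((EtCoh.HF X n).map e.inv z) := by
    rw [← ConcreteCategory.comp_apply, ← Functor.map_comp, Iso.inv_hom_id, CategoryTheory.Functor.map_id]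
    rfl
  rw [hz]
  refine Killed.map ((EtCoh.HF X n).map e.hom).hom ?_
  rw [ha]
  exact EtPic3.killed_sum _ _ fun j _ => Killed.map _ (h j (a j))

/-- A class of `G_m` killed at the maximal points is killed. -/
theorem killed_of_factorial (n : ℕ)
    (hsky : ∀ (x : Ix X) (z : EtCoh.H X (skyConst x.1 ℤ) n), Killed P z)
    (hloc : ∀ η : X, IsMaxPt X η → ∀ q : ℕ, 0 < q → q ≤ n → ∀ W : (Spec (X.presheaf.stalk η)).Etale,
      CompactSpace W.left → ∀ z : EtCoh.H W.left ((EtCoh.pull W.hom).obj (EtCoh.Gm _)) q, Killed P z)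
    (ξ : EtCoh.H X (EtCoh.Gm X) (n + 1))
    (hξ : ∀ η : X, IsMaxPt X η → Killed P (EtLim.HGmPull (X.fromSpecStalk η) (n + 1) ξ)) : Killed P ξ := by
  classical
  let φ := EtPic3.toGen X
  haveI : Mono φ := mono_toJ (genUnitsNoeth X)
  let T := ShortComplex.mk φ (cokernel.π φ) (cokernel.condition _)
  have hT : T.ShortExact := { exact := ShortComplex.exact_cokernel φ }
  let F := fun i : Fin (Fintype.card (EtPic3.MaxPts X)) =>
    (EtCoh.push (X.fromSpecStalk (EtPic3.maxPt X i).1)).obj (EtCoh.Gm (Spec (X.presheaf.stalk (EtPic3.maxPt X i).1)))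
  have hz : Killed P (ξ.comp (Ext.mk₀ φ) (add_zero (n + 1))) := by
    have key : φ = ∑ η : Fin (Fintype.card (EtPic3.MaxPts X)),
        EtLim.GmPush (X.fromSpecStalk (EtPic3.maxPt X η).1) ≫ biproduct.ι F η := biproduct.lift_eq
    have h : ξ.comp (Ext.mk₀ φ) (add_zero (n + 1)) = ∑ η : Fin (Fintype.card (EtPic3.MaxPts X)),
        (ξ.comp (Ext.mk₀ (EtLim.GmPush (X.fromSpecStalk (EtPic3.maxPt X η).1))) (add_zero (n + 1))).comp
          (Ext.mk₀ (biproduct.ι F η)) (add_zero (n + 1)) := by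
      have hlin := map_sum (Ext.addEquiv₀ (X := EtCoh.Gm X) (Y := ⨁ F)).symm
        (fun η => EtLim.GmPush (X.fromSpecStalk (EtPic3.maxPt X η).1) ≫ biproduct.ι F η) Finset.univ
      rw [key, show Ext.mk₀ (∑ η : Fin (Fintype.card (EtPic3.MaxPts X)),
          EtLim.GmPush (X.fromSpecStalk (EtPic3.maxPt X η).1) ≫ biproduct.ι F η) =
        ∑ η : Fin (Fintype.card (EtPic3.MaxPts X)),
          Ext.mk₀ (EtLim.GmPush (X.fromSpecStalk (EtPic3.maxPt X η).1) ≫ biproduct.ι F η) from hlin, Ext.comp_sum]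
      refine Finset.sum_congr rfl fun η _ => ?_
      rw [Ext.comp_assoc_of_third_deg_zero, Ext.mk₀_comp_mk₀]
    rw [h]
    refine EtPic3.killed_sum _ _ fun η _ => Killed.map ((Ext.mk₀ (biproduct.ι F η)).postcomp _ (add_zero (n + 1))) ?_
    obtain ⟨N, hN, hN0⟩ := hξ (EtPic3.maxPt X η).1 (EtPic3.maxPt X η).2
    refine EtPic3.killed_of_nsmul hN (EtPic3.killed_ker_HofPush (X.fromSpecStalk (EtPic3.maxPt X η).1)
      (EtPic3.compactSpace_bc_stalk (EtPic3.maxPt X η).1) P n _ (hloc (EtPic3.maxPt X η).1 (EtPic3.maxPt X η).2) _ ?_)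
    rw [map_nsmul]
    exact hN0
  obtain ⟨N, hN, hN0⟩ := hz
  have h1 : (N • ξ).comp (Ext.mk₀ T.f) (add_zero (n + 1)) = 0 :=
    (map_nsmul ((Ext.mk₀ φ).postcomp _ (add_zero (n + 1))) N ξ).trans hN0
  obtain ⟨z, hz'⟩ := Ext.covariant_sequence_exact₁ _ hT _ h1 (n₀ := n) rfl
  refine EtPic3.killed_of_nsmul hN ?_
  rw [← hz']
  exact Killed.map (hT.extClass.postcomp _ rfl) (killed_H_C hsky z)

theorem isAddTorsion_H_Gm (q : ℕ) (hq : 2 ≤ q) : IsAddTorsion (EtCoh.H X (EtCoh.Gm X) q) := by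
  intro ξ
  obtain ⟨n, rfl⟩ := Nat.exists_eq_add_one.2 (show 0 < q by omega)
  obtain ⟨m, rfl⟩ := Nat.exists_eq_add_one.2 (show 0 < n by omega)
  have hsky : ∀ (x : Ix X) (z : EtCoh.H X (skyConst x.1 ℤ) (m + 1)), Killed posNat z := fun x z => by
    obtain ⟨N, hN, h⟩ := isOfFinAddOrder_iff_nsmul_eq_zero.1 (EtPic3.isAddTorsion_H_push X x.1 m _ z)
    exact ⟨N, hN, h⟩
  have htors : ∀ (η : X), IsMaxPt X η → ∀ (W : Scheme.{u}) (j : W ⟶ Spec (X.presheaf.stalk η)) [Etale j]
      [CompactSpace W] (k : ℕ), 0 < k → ∀ z : EtCoh.H W (EtCoh.Gm W) k, Killed posNat z :=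
    fun η hη W j _ _ k hk z => by
      haveI := EtPic3.subsingleton_spec_stalk hη
      obtain ⟨N, hN, h⟩ := isOfFinAddOrder_iff_nsmul_eq_zero.1
        (EtPic3.isAddTorsion_H_local (X.presheaf.stalk η) j _ hk z)
      exact ⟨N, hN, h⟩
  obtain ⟨N, hN, h⟩ := killed_of_factorial (m + 1) hsky
    (fun η hη k hk _ W hW => EtPic3.killed_pullGm W fun z =>
      haveI : Etale W.hom := W.prop
      htors η hη W.left W.hom k hk z)
    ξ fun η hη => htors η hη _ (𝟙 _) (m + 1 + 1) (Nat.succ_pos _) _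
  exact isOfFinAddOrder_iff_nsmul_eq_zero.2 ⟨N, hN, h⟩

theorem brCoh_eq_zero (ξ : EtCoh.H X (EtCoh.Gm X) 2)
    (hξ : ∀ x : X, IsMaxPt X x → EtLim.HGmPull (X.fromSpecStalk x) 2 ξ = 0) : ξ = 0 := by
  obtain ⟨N, hN, h⟩ := killed_of_factorial (P := ⊥) 1
    (fun x z => by
      haveI := EtPic3.skyPush_const ℤ X x.1
      exact ⟨1, one_mem _, (one_nsmul _).trans
        (Subsingleton.elim (α := EtCoh.H X ((Dix.skyPush X x.1).obj (EtCoh.const (Spec (X.residueField x.1)) ℤ)) 1) z 0)⟩)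
    (fun η hη q hq hq1 W hW z => by
      obtain rfl : q = 1 := by omega
      exact EtPic3.killed_H1_local hη W z)
    ξ (fun η hη => ⟨1, one_mem _, (one_nsmul _).trans (hξ η hη)⟩)
  rw [Submonoid.mem_bot.1 hN, one_nsmul] at h
  exact h

end Noeth

end Groth.Agent.EtDiv3
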