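import Groth.Agent.Lib.EtPic3.PushConst
import Groth.Agent.Lib.EtPic3.MaxPoint

/-!
# Constant sheaves pushed forward from a point as functions on fibres
-/

universe u

set_option autoImplicit false
set_option linter.style.haveILetI false
set_option backward.isDefEq.respectTransparency false
set_option backward.isDefEq.respectTransparency.types false

open CategoryTheory CategoryTheory.Limits AlgebraicGeometry Opposite
open Groth.Agent.EtStalk (bcFst bcFst_nat)
open Groth.Agent.EtSite (sub subHom)
open Groth.Agent.EtPic3 (cst map_cst cst_injective cst_surjective_of_point)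

namespace Groth.Agent.EtDiv3

section Discrete

variable {κ : Type u} [Field κ]

local notation "Sκ" => Spec (CommRingCat.of κ)

/-- The open set of one point. -/
noncomputable def single (D : (Sκ).Etale) (z : D.left) : D.left.Opens :=
  ⟨{z}, by
    let f : D.left ⟶ Sκ := D.hom
    haveI : AlgebraicGeometry.Etale f := D.prop
    haveI := EtPic3.discreteTopology_of_etale_field f
    exact isOpen_discrete _⟩

theorem subsingleton_single (D : (Sκ).Etale) (z : D.left) : Subsingleton (sub D (single D z)).left :=
  ⟨fun a b => Subtype.ext ((Set.mem_singleton_iff.1 a.2).trans (Set.mem_singleton_iff.1 b.2).symm)⟩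

theorem nonempty_single (D : (Sκ).Etale) (z : D.left) : Nonempty (sub D (single D z)).left :=
  ⟨(⟨z, rfl⟩ : (single D z))⟩

variable {M : Type} [AddCommGroup M]

theorem cst_bijective_single (D : (Sκ).Etale) (z : D.left) :
    Function.Bijective (cst M (sub D (single D z))) := by
  haveI := subsingleton_single D z
  exact ⟨cst_injective M _ (nonempty_single D z), cst_surjective_of_point M _ (nonempty_single D z)⟩

/-- The value of a constant section at a point. -/
noncomputable def valC (D : (Sκ).Etale) (z : D.left) : (EtCoh.const (Sκ) M).obj.obj (op D) →+ M :=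
  (AddEquiv.ulift.toAddMonoidHom.comp
    (AddEquiv.ofBijective (cst M (sub D (single D z))) (cst_bijective_single D z)).symm.toAddMonoidHom).comp
    ((EtCoh.const (Sκ) M).obj.map (subHom D (single D z)).op).hom

theorem valC_eq (D : (Sκ).Etale) (z : D.left) (t : (EtCoh.const (Sκ) M).obj.obj (op D)) :
    (EtCoh.const (Sκ) M).obj.map (subHom D (single D z)).op t = cst M (sub D (single D z)) ⟨valC D z t⟩ :=
  ((AddEquiv.ofBijective (cst M (sub D (single D z))) (cst_bijective_single D z)).apply_symm_apply _).symm

theorem valC_of_eq (D : (Sκ).Etale) (z : D.left) (t : (EtCoh.const (Sκ) M).obj.obj (op D)) (m : M)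
    (h : (EtCoh.const (Sκ) M).obj.map (subHom D (single D z)).op t = cst M (sub D (single D z)) ⟨m⟩) :
    valC D z t = m :=
  congrArg ULift.down ((cst_bijective_single D z).1 ((valC_eq D z t).symm.trans h))

theorem valC_map {D E : (Sκ).Etale} (g : D ⟶ E) (z : D.left) (t : (EtCoh.const (Sκ) M).obj.obj (op E)) :
    valC D z ((EtCoh.const (Sκ) M).obj.map g.op t) = valC E (g.left z) t := by
  refine valC_of_eq _ _ _ _ ?_
  let k : sub D (single D z) ⟶ sub E (single E (g.left z)) :=
    MorphismProperty.Over.homMk (IsOpenImmersion.lift (single E (g.left z)).ι ((single D z).ι ≫ g.left) (by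
      rintro _ ⟨a, rfl⟩
      refine ⟨⟨g.left z, rfl⟩, ?_⟩
      show g.left z = g.left ((single D z).ι a)
      rw [show (single D z).ι a = z from Set.mem_singleton_iff.1 a.2])) (by
      show IsOpenImmersion.lift _ _ _ ≫ (single E (g.left z)).ι ≫ E.hom = (single D z).ι ≫ D.hom
      rw [IsOpenImmersion.lift_fac_assoc, Category.assoc]
      exact congrArg ((single D z).ι ≫ ·) (MorphismProperty.Over.w g))
  have hk : k ≫ subHom E (single E (g.left z)) = subHom D (single D z) ≫ g :=
    EtPic3.hom_ext (IsOpenImmersion.lift_fac _ _ _)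
  rw [EtPic3.map_map, ← hk, ← EtPic3.map_map, valC_eq, map_cst]

theorem valC_ext {D : (Sκ).Etale} {s t : (EtCoh.const (Sκ) M).obj.obj (op D)}
    (h : ∀ z, valC D z s = valC D z t) : s = t :=
  EtPic3.sect_ext _ (fun z : D.left => subHom D (single D z)) (fun z => ⟨z, ⟨z, rfl⟩, rfl⟩) fun z => by
    rw [valC_eq, valC_eq, h]

theorem exists_valC (D : (Sκ).Etale) (n : D.left → M) :
    ∃ t : (EtCoh.const (Sκ) M).obj.obj (op D), ∀ z, valC D z t = n z := by
  obtain ⟨t, ht⟩ := EtPic3.exists_glue (EtCoh.const (Sκ) M) (fun z : D.left => subHom D (single D z))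
    (fun z => ⟨z, ⟨z, rfl⟩, rfl⟩) (fun z => cst M (sub D (single D z)) ⟨n z⟩) fun i j T a b hab => by
      rw [map_cst, map_cst]
      by_cases hT : Nonempty T.left
      · obtain ⟨y⟩ := hT
        have h := congrArg (fun f : T ⟶ D => f.left y) hab
        have hi : (a ≫ subHom D (single D i)).left y = i := Set.mem_singleton_iff.1 (a.left y).2
        have hj : (b ≫ subHom D (single D j)).left y = j := Set.mem_singleton_iff.1 (b.left y).2
        rw [hi.symm.trans (h.trans hj)]
      · exact EtPic3.sect_ext _ (ι := PEmpty.{u + 1}) (Z := fun x => x.elim) (fun x => x.elim)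
          (fun x => (hT ⟨x⟩).elim) fun x => x.elim
  exact ⟨t, fun z => valC_of_eq _ _ _ _ (ht z)⟩

end Discrete

section Point

variable {X : Scheme.{u}} (x : X)

/-- The fibre over `x` as an étale scheme over the residue field. -/
noncomputable abbrev fibre (U : X.Etale) : (Spec (X.residueField x)).Etale :=
  (EtCoh.bc (X.fromSpecResidueField x)).obj U

theorem bcFst_injective (U : X.Etale) : Function.Injective (bcFst (X.fromSpecResidueField x) U) := by
  haveI hg : IsPreimmersion (X.fromSpecResidueField x) := inferInstance
  haveI : IsPreimmersion (bcFst (X.fromSpecResidueField x) U) :=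
    MorphismProperty.pullback_fst (P := @IsPreimmersion) U.hom (X.fromSpecResidueField x) hg
  exact (bcFst (X.fromSpecResidueField x) U).isEmbedding.injective

theorem hom_bcFst (U : X.Etale) (z : (fibre x U).left) : U.hom (bcFst (X.fromSpecResidueField x) U z) = x := by
  rw [show U.hom (bcFst (X.fromSpecResidueField x) U z) =
      X.fromSpecResidueField x (pullback.snd U.hom (X.fromSpecResidueField x) z) from
    (Scheme.Hom.comp_apply _ _ _).symm.trans
      ((congrArg (fun t : pullback U.hom (X.fromSpecResidueField x) ⟶ X => t z) pullback.condition).trans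
        (Scheme.Hom.comp_apply _ _ _))]
  exact Set.mem_singleton_iff.1 ((Scheme.range_fromSpecResidueField x).subset (Set.mem_range_self _))

variable {x} in
theorem exists_pt (U : X.Etale) (u : U.left) (hu : U.hom u = x) :
    ∃ z : (fibre x U).left, bcFst (X.fromSpecResidueField x) U z = u := by
  subst hu
  let f : U.left ⟶ X := U.hom
  let c : Spec (U.left.residueField u) := IsLocalRing.closedPoint (U.left.residueField u)
  refine ⟨pullback.lift (f := f) (g := X.fromSpecResidueField (f u)) (U.left.fromSpecResidueField u)
    (Spec.map (f.residueFieldMap u)) (f.SpecMap_residueFieldMap_fromSpecResidueField u).symm c, ?_⟩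
  refine (Scheme.Hom.comp_apply _ _ _).symm.trans ?_
  show (pullback.lift _ _ _ ≫ pullback.fst f _) c = u
  rw [pullback.lift_fst]
  exact Set.mem_singleton_iff.1 ((Scheme.range_fromSpecResidueField u).subset (Set.mem_range_self _))

/-- Sections of the constant sheaf pushed forward from `x`. -/
noncomputable abbrev skyConst (M : Type) [AddCommGroup M] : EtCoh.Ab X :=
  (EtCoh.push (X.fromSpecResidueField x)).obj (EtCoh.const (Spec (X.residueField x)) M)

variable {M : Type} [AddCommGroup M] {x}

/-- The value at a point over `x`. -/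
noncomputable def fnAt {U : X.Etale} (u : U.left) (hu : U.hom u = x) : (skyConst x M).obj.obj (op U) →+ M :=
  valC (κ := (X.residueField x : Type u)) (fibre x U) (exists_pt U u hu).choose

theorem fnAt_eq {U : X.Etale} (z : (fibre x U).left) (t : (skyConst x M).obj.obj (op U)) :
    fnAt (bcFst (X.fromSpecResidueField x) U z) (hom_bcFst x U z) t =
      valC (κ := (X.residueField x : Type u)) (fibre x U) z t := by
  show valC (κ := (X.residueField x : Type u)) (fibre x U) (exists_pt U _ (hom_bcFst x U z)).choose t = _
  rw [bcFst_injective x U (exists_pt U _ (hom_bcFst x U z)).choose_spec]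

theorem fnAt_congr {U : X.Etale} {u u' : U.left} (h : u = u') {hu : U.hom u = x} {hu' : U.hom u' = x}
    (t : (skyConst x M).obj.obj (op U)) : fnAt u hu t = fnAt u' hu' t := by
  subst h
  rfl

theorem fnAt_map {T U : X.Etale} (g : T ⟶ U) (v : T.left) (hv : T.hom v = x) (hgv : U.hom (g.left v) = x)
    (t : (skyConst x M).obj.obj (op U)) :
    fnAt v hv ((skyConst x M).obj.map g.op t) = fnAt (g.left v) hgv t := by
  obtain ⟨z, rfl⟩ := exists_pt T v hv
  rw [fnAt_eq]
  refine (valC_map (κ := (X.residueField x : Type u)) ((EtCoh.bc (X.fromSpecResidueField x)).map g) z t).trans ?_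
  rw [← fnAt_eq]
  have e : bcFst (X.fromSpecResidueField x) U (((EtCoh.bc (X.fromSpecResidueField x)).map g).left z) =
      g.left (bcFst (X.fromSpecResidueField x) T z) := by
    rw [← Scheme.Hom.comp_apply, bcFst_nat, Scheme.Hom.comp_apply]
  exact fnAt_congr e t

theorem fnAt_ext {U : X.Etale} {s t : (skyConst x M).obj.obj (op U)}
    (h : ∀ (u : U.left) (hu : U.hom u = x), fnAt u hu s = fnAt u hu t) : s = t :=
  valC_ext (κ := (X.residueField x : Type u)) (D := fibre x U) fun z => by
    rw [← fnAt_eq, ← fnAt_eq, h]

theorem exists_fnAt (U : X.Etale) (n : ∀ u : U.left, U.hom u = x → M) :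
    ∃ t : (skyConst x M).obj.obj (op U), ∀ u hu, fnAt u hu t = n u hu := by
  obtain ⟨t, ht⟩ := exists_valC (κ := (X.residueField x : Type u)) (fibre x U) fun z =>
    n (bcFst (X.fromSpecResidueField x) U z) (hom_bcFst x U z)
  refine ⟨t, fun u hu => ?_⟩
  obtain ⟨z, rfl⟩ := exists_pt U u hu
  rw [fnAt_eq]
  exact ht z

end Point

end Groth.Agent.EtDiv3
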