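import Groth.Agent.Lib.EtDiv3.Div
import Groth.Agent.Lib.EtStalk.Push

/-!
# The divisor sheaf is the direct sum over points of codimension one
-/

universe u

set_option autoImplicit false
set_option linter.style.haveILetI false
set_option backward.isDefEq.respectTransparency false
set_option backward.isDefEq.respectTransparency.types false

open CategoryTheory CategoryTheory.Limits AlgebraicGeometry Opposite TopologicalSpace IsLocalRing
open Groth.Agent.EtSite (sub subHom mem_et_iff)
open Groth.Agent.EtPic3 (IsMaxPt app_natural map_map)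

namespace Groth.Agent.EtDiv3

theorem exists_finsum_of_isColimit {α : Type u} {F : α → AddCommGrpCat.{u + 1}} (d : Cofan F) (hd : IsColimit d)
    (z : d.pt) : ∃ (T : Finset α) (a : ∀ j, F j), z = ∑ j ∈ T, d.inj j (a j) := by
  classical
  let S : AddSubgroup d.pt := ⨆ j, (d.inj j).hom.range
  have hS : S = ⊤ := by
    by_contra hne
    have h1 : AddCommGrpCat.ofHom (QuotientAddGroup.mk' S) = 0 := by
      refine hd.hom_ext fun ⟨j⟩ => AddCommGrpCat.ext fun a => ?_
      show QuotientAddGroup.mk' S (d.inj j a) = 0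
      exact (QuotientAddGroup.eq_zero_iff _).2 (AddSubgroup.mem_iSup_of_mem j ⟨a, rfl⟩)
    refine hne (eq_top_iff.2 fun y _ => ?_)
    exact (QuotientAddGroup.eq_zero_iff y).1 (ConcreteCategory.congr_hom h1 y)
  have hz : z ∈ S := by rw [hS]; trivial
  refine AddSubgroup.iSup_induction (C := fun z => ∃ (T : Finset α) (a : ∀ j, F j), z = ∑ j ∈ T, d.inj j (a j))
    (fun j => (d.inj j).hom.range) hz (fun j y ⟨a, ha⟩ => ?_) ⟨∅, fun _ => 0, by simp⟩ ?_
  · exact ⟨{j}, Function.update (fun _ => 0) j a, by simp [← ha]⟩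
  · rintro y y' ⟨T, a, rfl⟩ ⟨T', a', rfl⟩
    refine ⟨T ∪ T', fun j => (if j ∈ T then a j else 0) + (if j ∈ T' then a' j else 0), ?_⟩
    simp only [map_add, Finset.sum_add_distrib]
    congr 1
    · rw [← Finset.sum_subset (Finset.subset_union_left : T ⊆ T ∪ T') fun j _ hj => by simp [hj]]
      exact Finset.sum_congr rfl fun j hj => by simp [hj]
    · rw [← Finset.sum_subset (Finset.subset_union_right : T' ⊆ T ∪ T') fun j _ hj => by simp [hj]]
      exact Finset.sum_congr rfl fun j hj => by simp [hj]

variable {X : Scheme.{u}} [IsLocallyNoetherian X] [EtFactorial X] (G : GenUnits X)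
  (c : Cofan fun x : Ix X => skyConst x.1 ℤ) (hc : IsColimit c)

/-- The comparison. -/
noncomputable def comparison : c.pt ⟶ C G := hc.desc (Cofan.mk (C G) (psi G))

theorem inj_comparison (x : Ix X) : c.inj x ≫ comparison G c hc = psi G x := hc.fac _ ⟨x⟩

theorem mono_comparison : Mono (comparison G c hc) := by
  classical
  rw [EtStalk.mono_iff_stalk]
  intro Ω _ _ ξ
  let R := EtCoh.stalk ξ
  refine (injective_iff_map_eq_zero (R.map (comparison G c hc)).hom).2 fun z hz => ?_
  obtain ⟨T, a, rfl⟩ := exists_finsum_of_isColimit (Cofan.mk (R.obj c.pt) fun x => R.map (c.inj x))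
    (isColimitCofanMkObjOfIsColimit R _ _ ((IsColimit.equivIsoColimit
      (Cofan.ext (c₁ := c) (c₂ := Cofan.mk c.pt c.inj) (Iso.refl _) fun _ => Category.comp_id _)) hc)) z
  refine Finset.sum_eq_zero fun y hy => ?_
  have h1 : R.map (rhoBar G y) (R.map (comparison G c hc) (∑ j ∈ T, R.map (c.inj j) (a j))) = 0 :=
    (congrArg (R.map (rhoBar G y)) hz).trans (map_zero _)
  rw [map_sum, map_sum, Finset.sum_eq_single y] at h1
  · rw [← ConcreteCategory.comp_apply (R.map _) (R.map (comparison G c hc)), ← R.map_comp, inj_comparison,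
      ← ConcreteCategory.comp_apply, ← R.map_comp, psi_rhoBar_self, R.map_id] at h1
    show R.map (c.inj y) (a y) = 0
    rw [show a y = 0 from h1, map_zero]
  · intro j _ hj
    rw [← ConcreteCategory.comp_apply (R.map _) (R.map (comparison G c hc)), ← R.map_comp, inj_comparison,
      ← ConcreteCategory.comp_apply, ← R.map_comp, psi_rhoBar_of_ne G (Ne.symm hj)]
    show R.map 0 (a j) = 0
    haveI : PreservesBinaryBiproducts R := preservesBinaryBiproducts_of_preservesBinaryProducts _
    haveI : R.Additive := Functor.additive_of_preservesBinaryBiproducts _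
    rw [R.map_zero]
    rfl
  · exact fun h => absurd hy h

theorem exists_finite_rhoBar (U : X.Etale) (s : (C G).obj.obj (op U)) (z : U.left) :
    ∃ (V : X.Etale) (g : V ⟶ U) (v : V.left) (T : Finset (Ix X)), g.left v = z ∧
      ∀ x, x ∉ T → (rhoBar G x).hom.app (op V) ((C G).obj.map g.op s) = 0 := by
  obtain ⟨Y, g, y, t, hy, ht⟩ := exists_local_lift G U s z
  obtain ⟨W, hyW, -, hW, hgW, huniq⟩ := exists_nhd Y y ⊤ trivial
  let V := sub Y W
  haveI : NoetherianSpace V.left := hW
  have hone := oneGen_sub Y W (gen y) hgW (isMaxPt_gen y) huniq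
  let t' := G.J.obj.map (subHom Y W).op t
  have ht' : (cokernel.π G.toJ).hom.app (op V) t' = (C G).obj.map (subHom Y W ≫ g).op s := by
    rw [app_natural, ht, map_map]
  have hfin : {x : Ix X | ∃ q : V.left, V.hom q = x.1 ∧ ∃ hq : IsHt1 q, ordAt G V q hq t' ≠ 0}.Finite := by
    have h1 := (finite_support G hone t').image (fun q : V.left => V.hom q)
    exact (h1.preimage (Subtype.val_injective.injOn (s := (Subtype.val : Ix X → X) ⁻¹' _))).subset
      fun x ⟨q, hqx, hq⟩ => ⟨q, hq, hqx⟩
  refine ⟨V, subHom Y W ≫ g, (⟨y, hyW⟩ : W), hfin.toFinset, hy, fun x hx => fnAt_ext fun u hu => ?_⟩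
  rw [← ht', rhoBar_π, fnAt_rhoApp, map_zero]
  exact by_contra fun hne => hx (hfin.mem_toFinset.2 ⟨u, hu, isHt1_over x hu, hne⟩)

theorem epi_comparison : Epi (comparison G c hc) := by
  classical
  rw [← Sheaf.isLocallySurjective_iff_epi']
  refine ⟨fun {U} s => ?_⟩
  refine (mem_et_iff U _).2 fun z => ?_
  obtain ⟨V, g, v, T, hv, hT⟩ := exists_finite_rhoBar G U s z
  let s' := (C G).obj.map g.op s
  refine ⟨V, g, v, ⟨∑ x ∈ T, (c.inj x).hom.app (op V) ((rhoBar G x).hom.app (op V) s'), ?_⟩, hv⟩
  show (comparison G c hc).hom.app (op V) _ = s'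
  rw [map_sum]
  have hterm : ∀ x, (comparison G c hc).hom.app (op V) ((c.inj x).hom.app (op V) ((rhoBar G x).hom.app (op V) s')) =
      (psi G x).hom.app (op V) ((rhoBar G x).hom.app (op V) s') := fun x => by
    rw [← inj_comparison G c hc x]
    rfl
  rw [Finset.sum_congr rfl fun x _ => hterm x]
  refine eq_of_rhoBar G _ _ fun y => ?_
  rw [map_sum]
  by_cases hy : y ∈ T
  · rw [Finset.sum_eq_single y]
    · exact rhoBar_psiApp_self G y V _
    · exact fun x _ hx => rhoBar_psiApp_of_ne G (Ne.symm hx) V _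
    · exact fun h => absurd hy h
  · rw [hT y hy]
    exact Finset.sum_eq_zero fun x hx => rhoBar_psiApp_of_ne G (x := x) (fun e : y = x => hy (e.symm ▸ hx)) V _

/-- The divisor sheaf is the direct sum of skyscrapers. -/
theorem isIso_comparison : IsIso (comparison G c hc) := by
  haveI := mono_comparison G c hc
  haveI := epi_comparison G c hc
  exact isIso_of_mono_of_epi _

end Groth.Agent.EtDiv3
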