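import Groth.Agent.Lib.EtDiv3.Apply
import Groth.Agent.Lib.VB17.Setup

/-!
# The divisor sequence on curves
-/

universe u

set_option autoImplicit false
set_option linter.style.haveILetI false
set_option backward.isDefEq.respectTransparency.types false

open CategoryTheory CategoryTheory.Limits AlgebraicGeometry

namespace Groth.Agent.EtDiv3

theorem isClosed_iff_ht1 {X : Scheme.{u}} [IsIntegral X] [Factorial X] (hdim : topologicalKrullDim X = 1) (x : X) :
    IsClosed ({x} : Set X) ↔ ringKrullDim (X.presheaf.stalk x) = 1 := by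
  have hη : EtPic3.IsMaxPt X (genericPoint X) :=
    fun y hy => (hy.antisymm ((genericPoint_spec X).specializes trivial)).eq
  constructor
  · intro hx
    have hne : ringKrullDim (X.presheaf.stalk x) ≠ 0 := fun h0 => by
      have hxη : genericPoint X = x := (isMaxPt_iff x).2 h0 _ ((genericPoint_spec X).specializes trivial)
      have huniv : ({x} : Set X) = Set.univ := by
        rw [← hx.closure_eq, ← hxη]
        exact genericPoint_spec X
      haveI : Subsingleton X := ⟨fun a b => by
        have ha : a ∈ ({x} : Set X) := huniv ▸ trivial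
        have hb : b ∈ ({x} : Set X) := huniv ▸ trivial
        exact (Set.mem_singleton_iff.1 ha).trans (Set.mem_singleton_iff.1 hb).symm⟩
      haveI : DiscreteTopology X := inferInstance
      have h1 : topologicalKrullDim X ≤ 0 := topologicalKrullDim_zero_of_discreteTopology X
      rw [hdim] at h1
      exact absurd h1 (by decide)
    have hle : ringKrullDim (X.presheaf.stalk x) ≤ 1 :=
      (VB17.ringKrullDim_stalk_le_topologicalKrullDim x).trans hdim.le
    have hnn : 0 ≤ ringKrullDim (X.presheaf.stalk x) := ringKrullDim_nonneg_of_nontrivial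
    revert hne hle hnn
    generalize ringKrullDim (X.presheaf.stalk x) = d
    intro hne hle hnn
    obtain ⟨n, rfl⟩ : ∃ n : ℕ∞, d = (n : WithBot ℕ∞) := by
      cases d with
      | bot => exact absurd hnn (by simp)
      | coe n => exact ⟨n, rfl⟩
    have h2 : n ≤ 1 := by exact_mod_cast hle
    have h3 : n ≠ 0 := fun h => hne (by rw [h]; rfl)
    exact_mod_cast le_antisymm h2 (Order.one_le_iff_pos.2 (pos_iff_ne_zero.2 h3))
  · intro h
    by_contra hx
    have h0 := (isMaxPt_iff x).1 (EtPic3.isMaxPt_of_dim_le_one hdim.le hx)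
    rw [h0] at h
    exact absurd h (by decide)

theorem mono_and_cokernel_iso_curve {X : Scheme.{u}} [IsLocallyNoetherian X] [EtFactorial X] [IsIntegral X]
    (hdim : topologicalKrullDim X = 1)
    (c : Cofan fun x : {x : ↥X // IsClosed ({x} : Set ↥X)} => skyConst x.1 ℤ) (hc : IsColimit c) :
    Mono (EtLim.GmPush (X.fromSpecStalk (genericPoint X))) ∧
      Nonempty (cokernel (EtLim.GmPush (X.fromSpecStalk (genericPoint X))) ≅ c.pt) := by
  let e : Ix X ≃ {x : ↥X // IsClosed ({x} : Set ↥X)} :=
    Equiv.subtypeEquivRight fun x => (isClosed_iff_ht1 hdim x).symm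
  let c' : Cofan fun x : Ix X => skyConst x.1 ℤ := Cofan.mk c.pt fun x => c.inj (e x)
  have hc' : IsColimit c' := mkCofanColimit c'
    (fun s => Cofan.IsColimit.desc hc fun y => eqToHom (by rw [← e.apply_symm_apply y]; rfl) ≫ s.inj (e.symm y))
    (fun s x => by
      show c.inj (e x) ≫ Cofan.IsColimit.desc hc _ = s.inj x
      rw [Cofan.IsColimit.fac]
      have : ∀ (z : Ix X) (hz : z = x) (p : skyConst (e x).1 ℤ = skyConst z.1 ℤ), eqToHom p ≫ s.inj z = s.inj x := by
        rintro z rfl p
        exact Category.id_comp _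
      exact this _ (e.symm_apply_apply x) _)
    (fun s m hm => Cofan.IsColimit.hom_ext hc _ _ fun y => by
      obtain ⟨x, rfl⟩ := e.surjective y
      rw [Cofan.IsColimit.fac]
      have : ∀ (z : Ix X) (hz : z = x) (p : skyConst (e x).1 ℤ = skyConst z.1 ℤ), eqToHom p ≫ s.inj z = s.inj x := by
        rintro z rfl p
        exact Category.id_comp _
      rw [this _ (e.symm_apply_apply x)]
      exact hm x)
  exact mono_and_cokernel_iso c' hc'

end Groth.Agent.EtDiv3
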