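import Mathlib.RingTheory.DiscreteValuationRing.Basic
import Mathlib.RingTheory.DiscreteValuationRing.TFAE
import Mathlib.RingTheory.Localization.FractionRing
import Mathlib.RingTheory.Localization.AtPrime.Basic
import Mathlib.RingTheory.UniqueFactorizationDomain.Ideal
import Mathlib.RingTheory.Ideal.Height
import Mathlib.RingTheory.Ideal.KrullsHeightTheorem
import Mathlib.RingTheory.Localization.NumDen

/-!
# Orders in fraction fields of discrete valuation rings and factorial rings
-/

universe u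

set_option autoImplicit false

namespace Groth.Agent.EtDiv3

open IsLocalRing

section DVR

variable (R : Type u) [CommRing R] [IsDomain R] [IsDiscreteValuationRing R] {K : Type u} [Field K] [Algebra R K]
  [IsFractionRing R K]

theorem exists_zpow {π : R} (hπ : Irreducible π) (x : Kˣ) :
    ∃ (n : ℤ) (ε : Rˣ), (x : K) = algebraMap R K ε * algebraMap R K π ^ n := by
  obtain ⟨a, b, hb, hx⟩ := IsFractionRing.div_surjective (A := R) (x : K)
  have ha : a ≠ 0 := fun h => x.ne_zero (by rw [← hx, h, map_zero, zero_div])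
  obtain ⟨m, u, rfl⟩ := IsDiscreteValuationRing.eq_unit_mul_pow_irreducible ha hπ
  obtain ⟨l, v, rfl⟩ := IsDiscreteValuationRing.eq_unit_mul_pow_irreducible (nonZeroDivisors.ne_zero hb) hπ
  refine ⟨(m : ℤ) - l, u * v⁻¹, ?_⟩
  have hπ0 : algebraMap R K π ≠ 0 := (map_ne_zero_iff _ (IsFractionRing.injective R K)).2 hπ.ne_zero
  have hv0 : algebraMap R K v ≠ 0 := (map_ne_zero_iff _ (IsFractionRing.injective R K)).2 v.ne_zero
  have hvinv : algebraMap R K (v⁻¹ : Rˣ) * algebraMap R K v = 1 := by rw [← map_mul, Units.inv_mul, map_one]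
  rw [← hx, zpow_sub₀ hπ0, zpow_natCast, zpow_natCast, Units.val_mul, map_mul, map_mul, map_mul, map_pow, map_pow,
    eq_inv_of_mul_eq_one_left hvinv, mul_div_mul_comm, div_eq_mul_inv (algebraMap R K u)]

theorem zpow_unique {π π' : R} (hπ : Irreducible π) (hπ' : Irreducible π') {n n' : ℤ} {ε ε' : Rˣ}
    (h : algebraMap R K ε * algebraMap R K π ^ n = algebraMap R K ε' * algebraMap R K π' ^ n') : n = n' := by
  obtain ⟨c, rfl⟩ := IsDiscreteValuationRing.associated_of_irreducible R hπ hπ'
  by_contra hne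
  have hπ0 : algebraMap R K π ≠ 0 := (map_ne_zero_iff _ (IsFractionRing.injective R K)).2 hπ.ne_zero
  have key : ∀ (m : ℕ) (a b : Rˣ), algebraMap R K a * algebraMap R K π ^ (m + 1) = algebraMap R K b → False := by
    intro m a b h
    rw [← map_pow, ← map_mul] at h
    exact hπ.not_isUnit (isUnit_of_dvd_unit (Dvd.intro_left (a * π ^ m) (by
      rw [mul_assoc, ← pow_succ]; exact IsFractionRing.injective R K h)) b.isUnit)
  have hc : algebraMap R K ((c ^ n' : Rˣ) : R) = algebraMap R K c ^ n' :=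
    (congrArg Units.val (map_zpow (Units.map (algebraMap R K).toMonoidHom) c n')).trans (Units.val_zpow_eq_zpow_val _ _)
  rw [map_mul, mul_zpow, ← hc, mul_comm (algebraMap R K π ^ n'), ← mul_assoc, ← map_mul, ← Units.val_mul] at h
  rcases lt_or_gt_of_ne hne with hlt | hlt
  · obtain ⟨m, rfl⟩ : ∃ m : ℕ, n' = n + (m + 1) := ⟨(n' - n - 1).toNat, by omega⟩
    rw [zpow_add₀ hπ0, mul_left_comm, mul_comm _ (algebraMap R K π ^ n)] at h
    refine key m _ ε (by exact_mod_cast (mul_left_cancel₀ (zpow_ne_zero n hπ0) h).symm)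
  · obtain ⟨m, rfl⟩ : ∃ m : ℕ, n = n' + (m + 1) := ⟨(n - n' - 1).toNat, by omega⟩
    rw [zpow_add₀ hπ0, mul_left_comm, mul_comm _ (algebraMap R K π ^ n')] at h
    refine key m ε _ (by exact_mod_cast (mul_left_cancel₀ (zpow_ne_zero n' hπ0) h))

/-- The order of a nonzero element of the fraction field. -/
noncomputable def dord (x : Kˣ) : ℤ :=
  (exists_zpow R (Classical.choose_spec (IsDiscreteValuationRing.exists_irreducible R)) x).choose

theorem dord_eq {π : R} (hπ : Irreducible π) {x : Kˣ} {n : ℤ} (ε : Rˣ)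
    (h : (x : K) = algebraMap R K ε * algebraMap R K π ^ n) : dord R x = n := by
  obtain ⟨δ, hδ⟩ := (exists_zpow R (Classical.choose_spec (IsDiscreteValuationRing.exists_irreducible R)) x).choose_spec
  exact zpow_unique R (Classical.choose_spec (IsDiscreteValuationRing.exists_irreducible R)) hπ (hδ.symm.trans h)

theorem dord_mul (x y : Kˣ) : dord R (x * y) = dord R x + dord R y := by
  obtain ⟨π, hπ⟩ := IsDiscreteValuationRing.exists_irreducible R
  obtain ⟨n, ε, hx⟩ := exists_zpow R hπ x
  obtain ⟨m, δ, hy⟩ := exists_zpow R hπ y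
  rw [dord_eq R hπ ε hx, dord_eq R hπ δ hy]
  refine dord_eq R hπ (ε * δ) ?_
  rw [Units.val_mul, hx, hy, zpow_add₀ ((map_ne_zero_iff _ (IsFractionRing.injective R K)).2 hπ.ne_zero),
    Units.val_mul, map_mul]
  ring

theorem dord_algebraMap_unit {x : Kˣ} (ε : Rˣ) (h : (x : K) = algebraMap R K ε) : dord R x = 0 := by
  obtain ⟨π, hπ⟩ := IsDiscreteValuationRing.exists_irreducible R
  exact dord_eq R hπ ε (by rw [zpow_zero, mul_one, h])

theorem dord_irreducible {x : Kˣ} {π : R} (hπ : Irreducible π) (h : (x : K) = algebraMap R K π) :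
    dord R x = 1 :=
  dord_eq R hπ 1 (by rw [Units.val_one, map_one, one_mul, zpow_one, h])

theorem exists_unit_of_dord_eq_zero {x : Kˣ} (h : dord R x = 0) : ∃ ε : Rˣ, (x : K) = algebraMap R K ε := by
  obtain ⟨π, hπ⟩ := IsDiscreteValuationRing.exists_irreducible R
  obtain ⟨n, ε, hx⟩ := exists_zpow R hπ x
  rw [dord_eq R hπ ε hx] at h
  exact ⟨ε, by rw [hx, h, zpow_zero, mul_one]⟩

theorem dord_map {R' : Type u} [CommRing R'] [IsDomain R'] [IsDiscreteValuationRing R'] {K' : Type u} [Field K']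
    [Algebra R' K'] [IsFractionRing R' K'] (φ : R →+* R') (ψ : K →+* K')
    (hc : ∀ r, ψ (algebraMap R K r) = algebraMap R' K' (φ r))
    (hm : (maximalIdeal R).map φ = maximalIdeal R') (x : Kˣ) :
    dord R' (Units.map ψ.toMonoidHom x) = dord R x := by
  obtain ⟨π, hπ⟩ := IsDiscreteValuationRing.exists_irreducible R
  have hπ' : Irreducible (φ π) := by
    rw [IsDiscreteValuationRing.irreducible_iff_uniformizer, ← hm, hπ.maximalIdeal_eq, Ideal.map_span,
      Set.image_singleton]
  obtain ⟨n, ε, hx⟩ := exists_zpow R hπ x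
  rw [dord_eq R hπ ε hx]
  refine dord_eq R' hπ' (Units.map φ.toMonoidHom ε) ?_
  show ψ (x : K) = _
  rw [hx, map_mul, map_zpow₀, hc, hc]
  rfl

end DVR

section UFD

variable (A : Type u) [CommRing A] [IsDomain A] [UniqueFactorizationMonoid A]

/-- In a factorial domain a prime of height one is principal. -/
theorem exists_prime_of_height_one [IsNoetherianRing A] (P : Ideal A) [P.IsPrime] (h : P.height = 1) :
    ∃ π : A, Prime π ∧ P = Ideal.span {π} := by
  have hne : P ≠ ⊥ := fun he => by rw [he, Ideal.height_bot] at h; exact zero_ne_one h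
  obtain ⟨π, hπP, hπ⟩ := Ideal.IsPrime.exists_mem_prime_of_ne_bot ‹_› hne
  refine ⟨π, hπ, le_antisymm ?_ ((Ideal.span_singleton_le_iff_mem _).2 hπP)⟩
  haveI : (Ideal.span {π} : Ideal A).IsPrime := (Ideal.span_singleton_prime hπ.ne_zero).2 hπ
  by_contra hle
  have hlt : (Ideal.span {π} : Ideal A) < P :=
    lt_of_le_of_ne ((Ideal.span_singleton_le_iff_mem _).2 hπP) fun he => hle he.ge
  have h1 : (Ideal.span {π} : Ideal A).height < P.height := Ideal.height_strict_mono_of_isPrime hlt
  have h2 : (⊥ : Ideal A).height < (Ideal.span {π} : Ideal A).height :=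
    Ideal.height_strict_mono_of_isPrime (bot_lt_iff_ne_bot.2 (by rw [ne_eq, Ideal.span_singleton_eq_bot]; exact hπ.ne_zero))
  rw [h, ENat.lt_one_iff_eq_zero] at h1
  rw [h1] at h2
  exact not_lt_zero h2

variable {K : Type u} [Field K] [Algebra A K] [IsFractionRing A K]

/-- A fraction which is a unit at all primes of height one of a noetherian factorial domain is a unit. -/
theorem exists_unit_of_units_at_height_one [IsNoetherianRing A] (x : Kˣ)
    (h : ∀ P : Ideal A, ∀ _ : P.IsPrime, P.height = 1 → ∃ a b : A, a ∉ P ∧ b ∉ P ∧ (x : K) * algebraMap A K b = algebraMap A K a) :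
    ∃ ε : Aˣ, (x : K) = algebraMap A K ε := by
  obtain ⟨n, d, hred, hx⟩ : ∃ (n d : A), IsRelPrime n d ∧ (x : K) * algebraMap A K d = algebraMap A K n :=
    ⟨IsFractionRing.num A (x : K), (IsFractionRing.den A (x : K) : A), IsFractionRing.num_den_reduced A (x : K), by
      exact (congrArg (· * _) (IsFractionRing.mk'_num_den A (x : K)).symm).trans
        (IsLocalization.mk'_spec (M := nonZeroDivisors A) K _ _)⟩
  have hd0 : d ≠ 0 := fun h0 => by
    have hn : n = 0 := IsFractionRing.injective A K (by rw [← hx, h0, map_zero, mul_zero])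
    exact not_isUnit_zero (hred (hn ▸ dvd_refl (0 : A)) (h0 ▸ dvd_refl (0 : A)))
  have hn0 : n ≠ 0 := fun h0 => by
    rw [h0, map_zero] at hx
    exact mul_ne_zero x.ne_zero ((map_ne_zero_iff _ (IsFractionRing.injective A K)).2 hd0) hx
  have key : ∀ q : A, Prime q → ¬ (q ∣ n ∨ q ∣ d) := by
    intro q hq hor
    haveI : (Ideal.span {q} : Ideal A).IsPrime := (Ideal.span_singleton_prime hq.ne_zero).2 hq
    have hht : (Ideal.span {q} : Ideal A).height = 1 :=
      Ideal.height_span_singleton_eq_one_of_mem_nonZeroDivisors (mem_nonZeroDivisors_of_ne_zero hq.ne_zero) hq.not_isUnit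
    obtain ⟨a, b, ha, hb, hab⟩ := h _ inferInstance hht
    rw [Ideal.mem_span_singleton] at ha hb
    have he : n * b = a * d := IsFractionRing.injective A K (by
      rw [map_mul, map_mul, ← hx, ← hab]; ring)
    rcases hor with hn | hd
    · rcases hq.dvd_or_dvd (he ▸ hn.mul_right b : q ∣ a * d) with h1 | h1
      · exact ha h1
      · exact hq.not_isUnit (hred hn h1)
    · rcases hq.dvd_or_dvd (he.symm ▸ hd.mul_left a : q ∣ n * b) with h1 | h1
      · exact hq.not_isUnit (hred h1 hd)
      · exact hb h1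
  have hu : ∀ c : A, c ≠ 0 → (∀ q, Prime q → ¬ q ∣ c) → IsUnit c := fun c hc0 hc => by
    by_contra hnu
    obtain ⟨q, hq, hqc⟩ := WfDvdMonoid.exists_irreducible_factor hnu hc0
    exact hc q hq.prime hqc
  obtain ⟨u, rfl⟩ := hu n hn0 fun q hq hqn => key q hq (Or.inl hqn)
  obtain ⟨v, rfl⟩ := hu d hd0 fun q hq hqd => key q hq (Or.inr hqd)
  refine ⟨u * v⁻¹, ?_⟩
  rw [Units.val_mul, map_mul, ← hx, mul_assoc, ← map_mul, Units.mul_inv, map_one, mul_one]

end UFD

end Groth.Agent.EtDiv3
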