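import Groth.Agent.Lib.EtDiv3.Local
import Groth.Agent.Lib.EtDiv3.Const

/-!
# The sheaf of divisors of generic units
-/

universe u

set_option autoImplicit false
set_option linter.style.haveILetI false
set_option backward.isDefEq.respectTransparency false
set_option backward.isDefEq.respectTransparency.types false

open CategoryTheory CategoryTheory.Limits AlgebraicGeometry Opposite TopologicalSpace IsLocalRing
open Groth.Agent.EtSite (sub subHom mem_et_iff)
open Groth.Agent.EtPic3 (IsMaxPt app_natural map_map)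

namespace Groth.Agent.EtDiv3

variable {X : Scheme.{u}} [IsLocallyNoetherian X] [EtFactorial X] (G : GenUnits X)

/-- Codimension one points of the base. -/
abbrev Ix (X : Scheme.{u}) : Type u := {x : X // ringKrullDim (X.presheaf.stalk x) = 1}

theorem isHt1_over (x : Ix X) {U : X.Etale} {u : U.left} (hu : U.hom u = x.1) : IsHt1 u :=
  (isHt1_hom U u).2 (hu ▸ x.2)

/-- Orders along a point of codimension one. -/
noncomputable def rhoApp (x : Ix X) (U : X.Etale) (s : G.J.obj.obj (op U)) : (skyConst x.1 ℤ).obj.obj (op U) :=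
  (exists_fnAt U fun u hu => ordAt G U u (isHt1_over x hu) s).choose

theorem fnAt_rhoApp (x : Ix X) (U : X.Etale) (s : G.J.obj.obj (op U)) (u : U.left) (hu : U.hom u = x.1) :
    fnAt u hu (rhoApp G x U s) = ordAt G U u (isHt1_over x hu) s :=
  (exists_fnAt U fun u hu => ordAt G U u (isHt1_over x hu) s).choose_spec u hu

theorem hom_left_apply {T U : X.Etale} (g : T ⟶ U) (t : T.left) : U.hom (g.left t) = T.hom t :=
  (Scheme.Hom.comp_apply g.left U.hom t).symm.trans
    (congrArg (fun f : T.left ⟶ X => f t) (MorphismProperty.Over.w g))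

/-- The order morphism. -/
noncomputable def rho (x : Ix X) : G.J ⟶ skyConst x.1 ℤ :=
  ⟨{ app := fun U => AddCommGrpCat.ofHom (AddMonoidHom.mk' (rhoApp G x U.unop) fun a b => fnAt_ext fun u hu => by
        rw [map_add, fnAt_rhoApp, fnAt_rhoApp, fnAt_rhoApp, map_add])
     naturality := fun U T g => AddCommGrpCat.ext fun s => by
        show rhoApp G x T.unop (G.J.obj.map g s) = (skyConst x.1 ℤ).obj.map g (rhoApp G x U.unop s)
        refine fnAt_ext fun u hu => ?_
        have hu' : U.unop.hom (g.unop.left u) = x.1 := (hom_left_apply g.unop u).trans hu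
        rw [fnAt_rhoApp]
        refine Eq.trans ?_ (fnAt_map g.unop u hu hu' _).symm
        rw [fnAt_rhoApp]
        exact ordAt_map G g.unop u (isHt1_over x hu) (isHt1_over x hu') s }⟩

theorem toJ_rho (x : Ix X) : G.toJ ≫ rho G x = 0 :=
  Sheaf.hom_ext (NatTrans.ext (funext fun U => AddCommGrpCat.ext fun s => fnAt_ext fun u hu => by
    show fnAt u hu (rhoApp G x U.unop (G.toJ.hom.app U s)) = fnAt u hu 0
    rw [fnAt_rhoApp, map_zero]
    exact ordAt_toJ G U.unop u _ s))

/-- The sheaf of divisors. -/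
noncomputable abbrev C : EtCoh.Ab X := cokernel G.toJ

/-- The order morphism on divisors. -/
noncomputable def rhoBar (x : Ix X) : C G ⟶ skyConst x.1 ℤ := cokernel.desc G.toJ (rho G x) (toJ_rho G x)

theorem rhoBar_π (x : Ix X) (U : X.Etale) (t : G.J.obj.obj (op U)) :
    (rhoBar G x).hom.app (op U) ((cokernel.π G.toJ).hom.app (op U) t) = rhoApp G x U t := by
  show (cokernel.π G.toJ ≫ rhoBar G x).hom.app (op U) t = _
  rw [rhoBar, cokernel.π_desc]
  rfl

omit [IsLocallyNoetherian X] [EtFactorial X] in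
theorem π_toJ (U : X.Etale) (a : (EtCoh.Gm X).obj.obj (op U)) :
    (cokernel.π G.toJ).hom.app (op U) (G.toJ.hom.app (op U) a) = 0 := by
  show (G.toJ ≫ cokernel.π G.toJ).hom.app (op U) a = 0
  rw [cokernel.condition]
  rfl

omit [IsLocallyNoetherian X] [EtFactorial X] in
theorem exists_local_lift (U : X.Etale) (s : (C G).obj.obj (op U)) (z : U.left) :
    ∃ (Y : X.Etale) (g : Y ⟶ U) (y : Y.left) (t : G.J.obj.obj (op Y)), g.left y = z ∧
      (cokernel.π G.toJ).hom.app (op Y) t = (C G).obj.map g.op s := by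
  haveI : Presheaf.IsLocallySurjective X.smallEtaleTopology (cokernel.π G.toJ).hom :=
    (Sheaf.isLocallySurjective_iff_epi' _ _).2 inferInstance
  obtain ⟨Y, g, y, ⟨t, ht⟩, hy⟩ := (mem_et_iff U _).1 (Presheaf.imageSieve_mem X.smallEtaleTopology
    (cokernel.π G.toJ).hom s) z
  exact ⟨Y, g, y, t, hy, ht⟩

/-- A divisor with all orders zero vanishes. -/
theorem eq_zero_of_rhoBar {U : X.Etale} (s : (C G).obj.obj (op U))
    (h : ∀ x, (rhoBar G x).hom.app (op U) s = 0) : s = 0 := by
  have key : ∀ z : U.left, ∃ (Z : X.Etale) (g : Z ⟶ U) (w : Z.left), g.left w = z ∧ (C G).obj.map g.op s = 0 := by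
    intro z
    obtain ⟨Y, g, y, t, hy, ht⟩ := exists_local_lift G U s z
    obtain ⟨W, hyW, -, -, hgW, huniq⟩ := exists_nhd Y y ⊤ trivial
    let V := sub Y W
    let v : V.left := (⟨y, hyW⟩ : W)
    have hone := oneGen_sub Y W (gen y) hgW (isMaxPt_gen y) huniq
    have hgen : gen v = (⟨gen y, hgW⟩ : W) := oneGen_gen_eq hone v
    let t' := G.J.obj.map (subHom Y W).op t
    have ht' : (cokernel.π G.toJ).hom.app (op V) t' = (C G).obj.map (subHom Y W ≫ g).op s := by
      rw [app_natural, ht, map_map]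
    have hzero : ∀ (q : V.left) (hq : IsHt1 q), q ⤳ v → ordAt G V q hq t' = 0 := fun q hq _ => by
      let x : Ix X := ⟨V.hom q, (isHt1_hom V q).1 hq⟩
      rw [← fnAt_rhoApp G x V t' q rfl, ← rhoBar_π, ht', app_natural, h x, map_zero, map_zero]
    obtain ⟨W', hvW', a, ha⟩ := exists_toJ_eq G (v := v) (hgen.symm ▸ hone) t' hzero
    refine ⟨sub V W', subHom V W' ≫ subHom Y W ≫ g, (⟨v, hvW'⟩ : W'), hy, ?_⟩
    rw [← map_map, ← ht', ← app_natural, ← ha]
    exact π_toJ G _ a
  choose Z g w hw hz using key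
  exact EtPic3.sect_ext _ g (fun z => ⟨z, w z, hw z⟩) fun z => by rw [hz, map_zero]

theorem eq_of_rhoBar {U : X.Etale} (s s' : (C G).obj.obj (op U))
    (h : ∀ x, (rhoBar G x).hom.app (op U) s = (rhoBar G x).hom.app (op U) s') : s = s' :=
  sub_eq_zero.1 (eq_zero_of_rhoBar G _ fun x => by rw [map_sub, h, sub_self])

open Classical in
/-- The target orders. -/
noncomputable def target (x : Ix X) {U : X.Etale} (N : (skyConst x.1 ℤ).obj.obj (op U)) (q : U.left) : ℤ :=
  if h : U.hom q = x.1 then fnAt q h N else 0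

theorem target_of_eq (x : Ix X) {U : X.Etale} (N : (skyConst x.1 ℤ).obj.obj (op U)) (q : U.left)
    (h : U.hom q = x.1) : target x N q = fnAt q h N := dif_pos h

theorem target_of_ne (x : Ix X) {U : X.Etale} (N : (skyConst x.1 ℤ).obj.obj (op U)) (q : U.left)
    (h : U.hom q ≠ x.1) : target x N q = 0 := dif_neg h

theorem target_map (x : Ix X) {T U : X.Etale} (g : T ⟶ U) (N : (skyConst x.1 ℤ).obj.obj (op U)) (t : T.left) :
    target x ((skyConst x.1 ℤ).obj.map g.op N) t = target x N (g.left t) := by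
  by_cases h : T.hom t = x.1
  · have h' : U.hom (g.left t) = x.1 := (hom_left_apply g t).trans h
    rw [target_of_eq x _ t h, target_of_eq x _ _ h', fnAt_map g t h h']
  · rw [target_of_ne x _ t h, target_of_ne x _ _ fun h' => h ((hom_left_apply g t).symm.trans h')]

/-- Local generators of divisors. -/
theorem exists_lift_local (x : Ix X) (U : X.Etale) (N : (skyConst x.1 ℤ).obj.obj (op U)) (z : U.left) :
    ∃ (W : U.left.Opens) (_ : z ∈ W) (f : G.J.obj.obj (op (sub U W))),
      ∀ (q : (sub U W).left) (hq : IsHt1 q), ordAt G (sub U W) q hq f = target x N ((subHom U W).left q) := by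
  classical
  obtain ⟨W, hzW, -, hW, hgW, huniq⟩ := exists_nhd U z ⊤ trivial
  let V := sub U W
  let v : V.left := (⟨z, hzW⟩ : W)
  haveI : NoetherianSpace V.left := hW
  have hone := oneGen_sub U W (gen z) hgW (isMaxPt_gen z) huniq
  have hgen : gen v = (⟨gen z, hgW⟩ : W) := oneGen_gen_eq hone v
  let N' := (skyConst x.1 ℤ).obj.map (subHom U W).op N
  let f' : V.left ⟶ X := V.hom
  haveI : AlgebraicGeometry.Etale f' := V.prop
  haveI : LocallyQuasiFinite f' := FiniteSplit.locallyQuasiFinite_of_etale f'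
  have hfin : {q : V.left | V.hom q = x.1}.Finite := by
    haveI := (f'.isDiscrete_preimage_singleton x.1).to_subtype
    exact (Set.finite_coe_iff (s := f' ⁻¹' {x.1})).1 (finite_of_compact_of_discrete)
  let S := hfin.toFinset.filter (fun q => q ⤳ v)
  have hS : ∀ q : S, q.1 ⤳ v ∧ V.hom q.1 = x.1 := fun q => by
    obtain ⟨h1, h2⟩ := Finset.mem_filter.1 q.2
    exact ⟨h2, hfin.mem_toFinset.1 h1⟩
  choose β hβ using fun q : S => exists_uniformizer (hS q).1 (isHt1_over x (hS q).2)
  let b : AU (gen v) := ∑ q : S, target x N' q.1 • β q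
  obtain ⟨f, hf⟩ := exists_val G (hgen.symm ▸ hone : OneGen V.left (gen v)) b
  have hord : ∀ (q : V.left) (hq : IsHt1 q), q ⤳ v → ordAt G V q hq f = target x N' q := by
    intro q hq hs
    rw [ordAt_of_specializes G V hs hq, show G.val V (gen v) (isMaxPt_gen v) f = b from hf, map_sum, map_sum]
    by_cases hqx : V.hom q = x.1
    · have hmem : q ∈ S := Finset.mem_filter.2 ⟨hfin.mem_toFinset.2 hqx, hs⟩
      rw [Finset.sum_eq_single (⟨q, hmem⟩ : S)]
      · rw [map_zsmul, map_zsmul, (hβ ⟨q, hmem⟩ q hq hs).1 rfl, smul_eq_mul, mul_one]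
      · intro q' _ hne
        rw [map_zsmul, map_zsmul, (hβ q' q hq hs).2 fun e => hne (Subtype.ext e.symm), smul_zero]
      · exact fun h => absurd (Finset.mem_univ _) h
    · rw [target_of_ne x N' q hqx]
      refine Finset.sum_eq_zero fun q' _ => ?_
      rw [map_zsmul, map_zsmul, (hβ q' q hq hs).2 fun e => hqx (e ▸ (hS q').2), smul_zero]
  let D : Set V.left := {q | ∃ hq : IsHt1 q, ordAt G V q hq f ≠ target x N' q}
  have hD : D.Finite := by
    refine ((finite_support G hone f).union hfin).subset fun q ⟨hq, hne⟩ => ?_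
    by_cases h0 : ordAt G V q hq f = 0
    · exact Or.inr (by_contra fun h => hne (by rw [h0, target_of_ne x N' q h]))
    · exact Or.inl ⟨hq, h0⟩
  let Z := ⋃ q ∈ D, closure ({q} : Set V.left)
  have hZ : IsClosed Z := hD.isClosed_biUnion fun _ _ => isClosed_closure
  let W₂ : V.left.Opens := ⟨Zᶜ, hZ.isOpen_compl⟩
  have hv : v ∈ W₂ := fun h => by
    obtain ⟨q, ⟨hq, hne⟩, hcl⟩ := Set.mem_iUnion₂.1 h
    exact hne (hord q hq (specializes_iff_mem_closure.2 hcl))
  let W₁ : U.left.Opens := W.ι ''ᵁ W₂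
  have hW₁ : W₁ ≤ W := fun p hp => by
    obtain ⟨a, -, rfl⟩ := hp
    exact a.2
  let k : sub U W₁ ⟶ V := MorphismProperty.Over.homMk (U.left.homOfLE hW₁) (by
    show U.left.homOfLE hW₁ ≫ W.ι ≫ U.hom = W₁.ι ≫ U.hom
    rw [Scheme.homOfLE_ι_assoc])
  refine ⟨W₁, ⟨v, hv, rfl⟩, G.J.obj.map k.op f, fun q hq => ?_⟩
  have hk : (subHom U W).left (k.left q) = (subHom U W₁).left q :=
    (Scheme.Hom.comp_apply _ _ _).symm.trans
      (congrArg (fun r : W₁.toScheme ⟶ U.left => r q) (Scheme.homOfLE_ι U.left hW₁))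
  have hq₁ : IsHt1 (k.left q) := (isHt1_map k q).1 hq
  have hmem : k.left q ∈ W₂ := by
    obtain ⟨a, ha, he⟩ := q.2
    rw [show k.left q = a from W.ι.isOpenEmbedding.injective (hk.trans he.symm)]
    exact ha
  rw [ordAt_map G k q hq hq₁, ← hk, ← target_map x (subHom U W)]
  by_contra hne
  exact hmem (Set.mem_biUnion (show k.left q ∈ D from ⟨hq₁, hne⟩) (subset_closure rfl))

theorem fnAt_zero_of_ne {x y : Ix X} (hxy : y ≠ x) {U : X.Etale} (N : (skyConst x.1 ℤ).obj.obj (op U)) (q : U.left)
    (hq : U.hom q = y.1) : target x N q = 0 :=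
  target_of_ne x N q fun h => hxy (Subtype.ext (hq.symm.trans h))

/-- Divisors with prescribed orders along one point. -/
theorem exists_divisor (x : Ix X) (U : X.Etale) (N : (skyConst x.1 ℤ).obj.obj (op U)) :
    ∃ s : (C G).obj.obj (op U), (rhoBar G x).hom.app (op U) s = N ∧
      ∀ y, y ≠ x → (rhoBar G y).hom.app (op U) s = 0 := by
  choose W hzW f hf using fun z => exists_lift_local G x U N z
  let t := fun z => (cokernel.π G.toJ).hom.app (op (sub U (W z))) (f z)
  have hval : ∀ (z : U.left) (T : X.Etale) (a : T ⟶ sub U (W z)) (y : Ix X) (u : T.left) (hu : T.hom u = y.1),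
      fnAt u hu ((rhoBar G y).hom.app (op T) ((C G).obj.map a.op (t z))) =
        target x N ((a ≫ subHom U (W z)).left u) := fun z T a y u hu => by
    rw [← app_natural, rhoBar_π, fnAt_rhoApp, ordAt_map G a u _ ((isHt1_map a u).1 (isHt1_over y hu)), hf]
    rfl
  obtain ⟨s, hs⟩ := EtPic3.exists_glue (C G) (fun z => subHom U (W z)) (fun z => ⟨z, ⟨z, hzW z⟩, rfl⟩) t
    fun i j T a b hab => eq_of_rhoBar G _ _ fun y => fnAt_ext fun u hu => by
      rw [hval i T a y u hu, hval j T b y u hu, hab]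
  have hall : ∀ (y : Ix X) (u : U.left) (hu : U.hom u = y.1),
      fnAt u hu ((rhoBar G y).hom.app (op U) s) = target x N u := fun y u hu => by
    let a : (sub U (W u)).left := (⟨u, hzW u⟩ : W u)
    have ha : (sub U (W u)).hom a = y.1 := (hom_left_apply (subHom U (W u)) a).symm.trans hu
    have h1 : fnAt a ha ((skyConst y.1 ℤ).obj.map (subHom U (W u)).op ((rhoBar G y).hom.app (op U) s)) =
        target x N u := by
      rw [← app_natural, hs u]
      show fnAt a ha ((rhoBar G y).hom.app _ ((cokernel.π G.toJ).hom.app _ (f u))) = _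
      rw [rhoBar_π, fnAt_rhoApp, hf]
      rfl
    exact (fnAt_map (subHom U (W u)) a ha hu _).symm.trans h1
  exact ⟨s, fnAt_ext fun u hu => by rw [hall, target_of_eq x N u hu],
    fun y hy => fnAt_ext fun u hu => by rw [hall, fnAt_zero_of_ne hy N u hu, map_zero]⟩

/-- The divisor morphism of a point. -/
noncomputable def psiApp (x : Ix X) (U : X.Etale) (N : (skyConst x.1 ℤ).obj.obj (op U)) : (C G).obj.obj (op U) :=
  (exists_divisor G x U N).choose

theorem rhoBar_psiApp_self (x : Ix X) (U : X.Etale) (N : (skyConst x.1 ℤ).obj.obj (op U)) :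
    (rhoBar G x).hom.app (op U) (psiApp G x U N) = N :=
  (exists_divisor G x U N).choose_spec.1

theorem rhoBar_psiApp_of_ne {x y : Ix X} (h : y ≠ x) (U : X.Etale) (N : (skyConst x.1 ℤ).obj.obj (op U)) :
    (rhoBar G y).hom.app (op U) (psiApp G x U N) = 0 :=
  (exists_divisor G x U N).choose_spec.2 y h

/-- The divisors supported at one point. -/
noncomputable def psi (x : Ix X) : skyConst x.1 ℤ ⟶ C G :=
  ⟨{ app := fun U => AddCommGrpCat.ofHom (AddMonoidHom.mk' (psiApp G x U.unop) fun a b => eq_of_rhoBar G _ _ fun y => by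
        by_cases h : y = x
        · subst h
          simp only [map_add, rhoBar_psiApp_self]
        · simp only [map_add, rhoBar_psiApp_of_ne G h, add_zero])
     naturality := fun U T g => AddCommGrpCat.ext fun N => by
        show psiApp G x T.unop ((skyConst x.1 ℤ).obj.map g N) = (C G).obj.map g (psiApp G x U.unop N)
        refine eq_of_rhoBar G _ _ fun y => Eq.trans ?_ (app_natural (rhoBar G y) g.unop _).symm
        by_cases h : y = x
        · subst h
          rw [rhoBar_psiApp_self, rhoBar_psiApp_self]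
          rfl
        · rw [rhoBar_psiApp_of_ne G h, rhoBar_psiApp_of_ne G h, map_zero] }⟩

theorem psi_rhoBar_self (x : Ix X) : psi G x ≫ rhoBar G x = 𝟙 _ :=
  Sheaf.hom_ext (NatTrans.ext (funext fun U => AddCommGrpCat.ext fun N => rhoBar_psiApp_self G x U.unop N))

theorem psi_rhoBar_of_ne {x y : Ix X} (h : y ≠ x) : psi G x ≫ rhoBar G y = 0 :=
  Sheaf.hom_ext (NatTrans.ext (funext fun U => AddCommGrpCat.ext fun N => rhoBar_psiApp_of_ne G h U.unop N))

theorem mono_toJ : Mono G.toJ := by
  rw [EtStalk.mono_iff_app_injective]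
  rintro ⟨U⟩
  refine (injective_iff_map_eq_zero (G.toJ.hom.app (op U)).hom).2 fun s hs => ?_
  obtain ⟨a, rfl⟩ := EtPic3.ε_surjective U s
  have h1 : Additive.toMul a = 1 := Units.ext (TopCat.Presheaf.section_ext U.left.sheaf ⊤ _ _ fun z _ => by
    have hg : germU (gen z) a = 0 := by
      have h := G.val_toJ U (gen z) (isMaxPt_gen z) (Additive.toMul a)
      refine h.symm.trans ?_
      show G.val U (gen z) _ (G.toJ.hom.app (op U) (EtPic3.ε U a)) = 0
      rw [hs, map_zero]
    show U.left.presheaf.germ ⊤ z _ (Additive.toMul a).1 = U.left.presheaf.germ ⊤ z _ 1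
    rw [map_one]
    refine IsFractionRing.injective (U.left.presheaf.stalk z) (K z) ?_
    rw [map_one, ← germ_gen z]
    exact congrArg Units.val (congrArg Additive.toMul hg))
  rw [show a = 0 from h1, map_zero]

end Groth.Agent.EtDiv3
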