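import Groth.Agent.Lib.EtDiv3.Pts

/-!
# Sheaves of generic units
-/

universe u

set_option autoImplicit false
set_option linter.style.haveILetI false
set_option backward.isDefEq.respectTransparency false
set_option backward.isDefEq.respectTransparency.types false

open CategoryTheory CategoryTheory.Limits AlgebraicGeometry Opposite
open Groth.Agent.EtStalk (bcFst bcFst_nat)
open Groth.Agent.EtPic3 (IsMaxPt ε uv uv_map uv_GmPush exists_lift isIso_lift)

namespace Groth.Agent.EtDiv3

variable {X : Scheme.{u}}

/-- All schemes étale over `X` have factorial local rings. -/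
class EtFactorial (X : Scheme.{u}) : Prop where
  factorial : ∀ U : X.Etale, Factorial U.left

attribute [scoped instance] EtFactorial.factorial

instance factorial_of_etFactorial [EtFactorial X] : Factorial X :=
  EtFactorial.factorial (EtCoh.top X)

/-- Units of a local ring, additively. -/
abbrev AU {Z : Scheme.{u}} (z : Z) : Type u := Additive (Z.presheaf.stalk z)ˣ

/-- The map of units along a morphism. -/
noncomputable def auMap {Z Z' : Scheme.{u}} (g : Z' ⟶ Z) (z : Z') : AU (g z) →+ AU z :=
  (Units.map (g.stalkMap z).hom.toMonoidHom).toAdditive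

theorem auMap_injective {Z Z' : Scheme.{u}} (g : Z' ⟶ Z) (z : Z') [Flat g] : Function.Injective (auMap g z) := by
  intro a b hab
  have h : Function.Injective (g.stalkMap z) := by
    letI := (g.stalkMap z).hom.toAlgebra
    haveI : IsLocalHom (algebraMap (Z.presheaf.stalk (g z)) (Z'.presheaf.stalk z)) :=
      inferInstanceAs (IsLocalHom (g.stalkMap z).hom)
    haveI : Module.Flat (Z.presheaf.stalk (g z)) (Z'.presheaf.stalk z) := Flat.stalkMap g z
    haveI := Module.FaithfullyFlat.of_flat_of_isLocalHom (A := Z.presheaf.stalk (g z)) (B := Z'.presheaf.stalk z)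
    exact FaithfulSMul.algebraMap_injective _ _
  exact Additive.toMul.injective (Units.ext (h (congrArg Units.val (congrArg Additive.toMul hab))))

/-- The germ of a unit. -/
noncomputable def germU {Z : Scheme.{u}} (z : Z) : Additive Γ(Z, ⊤)ˣ →+ AU z :=
  (Units.map (Z.presheaf.germ ⊤ z trivial).hom.toMonoidHom).toAdditive

section Single

variable (η : X)

/-- The sheaf of units at `η`. -/
noncomputable abbrev Jη : EtCoh.Ab X :=
  (EtCoh.push (X.fromSpecStalk η)).obj (EtCoh.Gm (Spec (X.presheaf.stalk η)))

variable {η}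

/-- The chosen lift. -/
noncomputable def lft {U : X.Etale} {w : U.left} (h : U.hom w = η) :
    Spec (U.left.presheaf.stalk w) ⟶ ((EtCoh.bc (X.fromSpecStalk η)).obj U).left :=
  (exists_lift η U w h).choose

theorem lft_fst {U : X.Etale} {w : U.left} (h : U.hom w = η) :
    lft h ≫ bcFst (X.fromSpecStalk η) U = U.left.fromSpecStalk w :=
  (exists_lift η U w h).choose_spec

/-- The value of a generic unit at a point over `η`. -/
noncomputable def valη {U : X.Etale} {w : U.left} (h : U.hom w = η) :
    (Jη η).obj.obj (op U) →+ AU w :=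
  ((Units.map ((lft h).appTop ≫ (Scheme.ΓSpecIso (U.left.presheaf.stalk w)).hom).hom.toMonoidHom).toAdditive).comp
    (AddEquiv.ulift.toAddMonoidHom :
      ULift.{u + 1} (Additive Γ(((EtCoh.bc (X.fromSpecStalk η)).obj U).left, ⊤)ˣ) →+ _)

theorem valη_coe {U : X.Etale} {w : U.left} (h : U.hom w = η) (s : (Jη η).obj.obj (op U)) :
    ((Additive.toMul (valη h s) : (U.left.presheaf.stalk w)ˣ) : U.left.presheaf.stalk w) =
      (Scheme.ΓSpecIso (U.left.presheaf.stalk w)).hom ((lft h).appTop
        (uv (X := Spec (X.presheaf.stalk η)) (V := (EtCoh.bc (X.fromSpecStalk η)).obj U) s)) :=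
  rfl

theorem isPreimmersion_bcFst (U : X.Etale) : IsPreimmersion (bcFst (X.fromSpecStalk η) U) :=
  MorphismProperty.pullback_fst (P := @IsPreimmersion) U.hom (X.fromSpecStalk η)
    (IsAffineOpen.fromSpecStalk_isPreimmersion _ _ _)

theorem valη_map {T U : X.Etale} (g : T ⟶ U) {t : T.left} (ht : T.hom t = η) (hgt : U.hom (g.left t) = η)
    (s : (Jη η).obj.obj (op U)) :
    valη ht ((Jη η).obj.map g.op s) = auMap g.left t (valη hgt s) := by
  refine Additive.toMul.injective (Units.ext ?_)
  show ((Additive.toMul (valη ht ((Jη η).obj.map g.op s))) : (T.left.presheaf.stalk t)ˣ).1 =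
    g.left.stalkMap t ((Additive.toMul (valη hgt s) : (U.left.presheaf.stalk (g.left t))ˣ) : U.left.presheaf.stalk (g.left t))
  rw [valη_coe, valη_coe]
  have hk : Spec.map (g.left.stalkMap t) ≫ lft hgt = lft ht ≫ ((EtCoh.bc (X.fromSpecStalk η)).map g).left := by
    haveI := isPreimmersion_bcFst (η := η) U
    rw [← cancel_mono (bcFst (X.fromSpecStalk η) U), Category.assoc, lft_fst, Category.assoc, bcFst_nat,
      ← Category.assoc, lft_fst, Scheme.SpecMap_stalkMap_fromSpecStalk]
  have e := congrArg (fun f : Γ(((EtCoh.bc (X.fromSpecStalk η)).obj U).left, ⊤) ⟶ Γ(Spec (T.left.presheaf.stalk t), ⊤) =>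
    (Scheme.ΓSpecIso (T.left.presheaf.stalk t)).hom (f (uv (X := Spec (X.presheaf.stalk η))
      (V := (EtCoh.bc (X.fromSpecStalk η)).obj U) s)))
    ((Scheme.Hom.comp_appTop _ _).symm.trans ((congrArg Scheme.Hom.appTop hk).trans (Scheme.Hom.comp_appTop _ _)))
  refine e.symm.trans ?_
  exact ConcreteCategory.congr_hom (Scheme.ΓSpecIso_naturality (g.left.stalkMap t)) _

theorem valη_GmPush {U : X.Etale} {w : U.left} (h : U.hom w = η) (a : Γ(U.left, ⊤)ˣ) :
    valη h ((EtLim.GmPush (X.fromSpecStalk η)).hom.app (op U) (ε U (Additive.ofMul a))) =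
      germU w (Additive.ofMul a) := by
  refine Additive.toMul.injective (Units.ext ?_)
  rw [valη_coe, uv_GmPush]
  have e : (bcFst (X.fromSpecStalk η) U).appTop ≫ (lft h).appTop ≫ (Scheme.ΓSpecIso (U.left.presheaf.stalk w)).hom =
      U.left.presheaf.germ ⊤ w trivial := by
    rw [← Category.assoc, ← Scheme.Hom.comp_appTop, lft_fst, EtPic3.fromSpecStalk_appTop_eq, Category.assoc,
      Iso.inv_hom_id, Category.comp_id]
  exact ConcreteCategory.congr_hom e a.1

theorem valη_ext (hη : IsMaxPt X η) {U : X.Etale} (s : (Jη η).obj.obj (op U))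
    (h : ∀ (w : U.left) (hw : U.hom w = η), valη hw s = 0) : s = 0 := by
  refine EtPic3.eq_zero_of_uv (X := Spec (X.presheaf.stalk η)) (V := (EtCoh.bc (X.fromSpecStalk η)).obj U) ?_
  let B := ((EtCoh.bc (X.fromSpecStalk η)).obj U).left
  let a : Γ(B, ⊤) := uv (X := Spec (X.presheaf.stalk η)) (V := (EtCoh.bc (X.fromSpecStalk η)).obj U) s
  show a = 1
  refine TopCat.Presheaf.section_ext B.sheaf ⊤ _ _ fun z _ => ?_
  let w : U.left := bcFst (X.fromSpecStalk η) U z
  have hw : U.hom w = η := by
    show U.hom (bcFst (X.fromSpecStalk η) U z) = η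
    rw [show U.hom (bcFst (X.fromSpecStalk η) U z) =
        X.fromSpecStalk η (pullback.snd U.hom (X.fromSpecStalk η) z) from
      (Scheme.Hom.comp_apply _ _ _).symm.trans
        ((congrArg (fun t : pullback U.hom (X.fromSpecStalk η) ⟶ X => t z) pullback.condition).trans
          (Scheme.Hom.comp_apply _ _ _))]
    exact hη _ ((Scheme.range_fromSpecStalk (X := X) (x := η)).subset (Set.mem_range_self _))
  haveI := isPreimmersion_bcFst (η := η) U
  let c := IsLocalRing.closedPoint (U.left.presheaf.stalk w)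
  have hz : lft hw c = z := (bcFst (X.fromSpecStalk η) U).isEmbedding.injective (by
    rw [← Scheme.Hom.comp_apply, lft_fst]
    exact Scheme.fromSpecStalk_closedPoint)
  have ha : (lft hw).appTop a = 1 := (ConcreteCategory.bijective_of_isIso (Scheme.ΓSpecIso _).hom).1 (by
    rw [map_one]
    exact congrArg Units.val (congrArg Additive.toMul (h w hw)))
  have hinj : Function.Injective ((lft hw).stalkMap c) := by
    haveI hi : IsIso ((lft hw ≫ bcFst (X.fromSpecStalk η) U).stalkMap c) := by
      rw [lft_fst]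
      haveI : IsIso ((U.left.fromSpecStalk w).stalkMap c ≫
          (stalkClosedPointIso (U.left.presheaf.stalk w)).hom) := by
        show IsIso (Scheme.stalkClosedPointTo (U.left.fromSpecStalk w))
        rw [Scheme.stalkClosedPointTo_fromSpecStalk]
        infer_instance
      exact IsIso.of_isIso_comp_right _ (stalkClosedPointIso (U.left.presheaf.stalk w)).hom
    rw [Scheme.Hom.stalkMap_comp] at hi
    have hb := ConcreteCategory.bijective_of_isIso ((bcFst (X.fromSpecStalk η) U).stalkMap (lft hw c) ≫ (lft hw).stalkMap c)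
    intro x y hxy
    obtain ⟨x', rfl⟩ := (bcFst (X.fromSpecStalk η) U).stalkMap_surjective (lft hw c) x
    obtain ⟨y', rfl⟩ := (bcFst (X.fromSpecStalk η) U).stalkMap_surjective (lft hw c) y
    exact congrArg _ (hb.1 hxy)
  have h1 : B.presheaf.germ ⊤ (lft hw c) trivial a = 1 := hinj (by
    rw [map_one, Scheme.Hom.germ_stalkMap_apply]
    show (Spec (U.left.presheaf.stalk w)).presheaf.germ ⊤ c trivial ((lft hw).appTop a) = 1
    rw [ha, map_one])
  show B.presheaf.germ ⊤ z _ a = B.presheaf.germ ⊤ z _ 1
  rw [map_one]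
  exact Eq.rec (motive := fun z' _ => B.presheaf.germ ⊤ z' trivial a = 1) h1 hz

theorem valη_surjective (hη : IsMaxPt X η) {U : X.Etale} {w : U.left} (h : U.hom w = η)
    (huniq : ∀ w' : U.left, U.hom w' = η → w' = w) : Function.Surjective (valη h) := by
  intro b
  haveI := isIso_lift η hη U w huniq (lft h) (lft_fst h)
  let φ := ((lft h).appTop ≫ (Scheme.ΓSpecIso (U.left.presheaf.stalk w)).hom)
  let r := (asIso φ).commRingCatIsoToRingEquiv
  refine ⟨ULift.up (Additive.ofMul ((Units.mapEquiv r.toMulEquiv).symm (Additive.toMul b))), ?_⟩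
  exact Additive.toMul.injective ((Units.mapEquiv r.toMulEquiv).apply_symm_apply (Additive.toMul b))

end Single

/-- A sheaf of generic units. -/
structure GenUnits (X : Scheme.{u}) where
  /-- The sheaf. -/
  J : EtCoh.Ab X
  /-- The restriction. -/
  toJ : EtCoh.Gm X ⟶ J
  /-- Values at maximal points. -/
  val : ∀ (U : X.Etale) (w : U.left), IsMaxPt U.left w → (J.obj.obj (op U) →+ AU w)
  val_map : ∀ {T U : X.Etale} (g : T ⟶ U) (t : T.left) (ht : IsMaxPt T.left t) (hgt : IsMaxPt U.left (g.left t))
    (s : J.obj.obj (op U)), val T t ht (J.obj.map g.op s) = auMap g.left t (val U (g.left t) hgt s)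
  val_toJ : ∀ (U : X.Etale) (w : U.left) (hw : IsMaxPt U.left w) (a : Γ(U.left, ⊤)ˣ),
    val U w hw (toJ.hom.app (op U) (ε U (Additive.ofMul a))) = germU w (Additive.ofMul a)
  ext : ∀ (U : X.Etale) (s : J.obj.obj (op U)), (∀ w hw, val U w hw s = 0) → s = 0
  surj : ∀ (U : X.Etale) (w : U.left) (hw : IsMaxPt U.left w), (∀ w', IsMaxPt U.left w' → w' = w) →
    Function.Surjective (val U w hw)

section LocNoeth

variable [IsLocallyNoetherian X] [EtFactorial X]

theorem isLocallyNoetherian_left (U : X.Etale) : IsLocallyNoetherian U.left := by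
  let f : U.left ⟶ X := U.hom
  haveI : AlgebraicGeometry.Etale f := U.prop
  exact LocallyOfFiniteType.isLocallyNoetherian f

theorem isMaxPt_hom (U : X.Etale) {w : U.left} (hw : IsMaxPt U.left w) : IsMaxPt X (U.hom w) := by
  let f : U.left ⟶ X := U.hom
  haveI : AlgebraicGeometry.Etale f := U.prop
  haveI := isLocallyNoetherian_left U
  show IsMaxPt X (f w)
  rw [← gen_of_isMaxPt hw, map_gen f]
  exact isMaxPt_gen _

theorem isMaxPt_of_hom (U : X.Etale) {w : U.left} (hw : IsMaxPt X (U.hom w)) : IsMaxPt U.left w := by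
  let f : U.left ⟶ X := U.hom
  haveI : AlgebraicGeometry.Etale f := U.prop
  haveI := isLocallyNoetherian_left U
  rw [isMaxPt_iff, ringKrullDim_map f]
  exact (isMaxPt_iff _).1 hw

/-- Generic units at the generic point. -/
noncomputable def genUnitsIntegral [IsIntegral X] : GenUnits X :=
  have hη : IsMaxPt X (genericPoint X) := fun y hy => (hy.antisymm ((genericPoint_spec X).specializes trivial)).eq
  have hall : ∀ (U : X.Etale) (w : U.left), IsMaxPt U.left w → U.hom w = genericPoint X := fun U w hw =>
    (isMaxPt_hom U hw _ ((genericPoint_spec X).specializes trivial)).symm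
  { J := Jη (genericPoint X)
    toJ := EtLim.GmPush (X.fromSpecStalk (genericPoint X))
    val := fun U w hw => valη (hall U w hw)
    val_map := fun {T U} g t ht hgt s => valη_map g (hall T t ht) (hall U _ hgt) s
    val_toJ := fun U w hw a => valη_GmPush (hall U w hw) a
    ext := fun U s h => valη_ext hη s fun w hw => h w (isMaxPt_of_hom U (hw ▸ hη))
    surj := fun U w hw hu => valη_surjective hη (hall U w hw) fun w' hw' => hu w' (isMaxPt_of_hom U (hw' ▸ hη)) }

end LocNoeth

section Noeth

variable (X) [IsNoetherian X] [EtFactorial X]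

/-- The index of a maximal point. -/
noncomputable def idxMax (U : X.Etale) (w : U.left) (hw : IsMaxPt U.left w) : Fin (Fintype.card (EtPic3.MaxPts X)) :=
  Fintype.equivFin (EtPic3.MaxPts X) ⟨U.hom w, isMaxPt_hom U hw⟩

theorem hom_eq_maxPt (U : X.Etale) (w : U.left) (hw : IsMaxPt U.left w) :
    U.hom w = (EtPic3.maxPt X (idxMax X U w hw)).1 := by
  rw [EtPic3.maxPt, idxMax, Equiv.symm_apply_apply]

/-- Projection from the generic units. -/
noncomputable def prJ (i : Fin (Fintype.card (EtPic3.MaxPts X))) (U : X.Etale) :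
    (EtPic3.genUnits X).obj.obj (op U) →+ (Jη (EtPic3.maxPt X i).1).obj.obj (op U) :=
  ((biproduct.π (fun i : Fin (Fintype.card (EtPic3.MaxPts X)) => Jη (EtPic3.maxPt X i).1) i).hom.app (op U)).hom

/-- Generic units on a noetherian scheme. -/
noncomputable def genUnitsNoeth : GenUnits X :=
  { J := EtPic3.genUnits X
    toJ := EtPic3.toGen X
    val := fun U w hw => (valη (hom_eq_maxPt X U w hw)).comp (prJ X (idxMax X U w hw) U)
    val_map := fun {T U} g t ht hgt s => by
      have hi : idxMax X T t ht = idxMax X U (g.left t) hgt := by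
        refine congrArg (Fintype.equivFin (EtPic3.MaxPts X)) (Subtype.ext ?_)
        exact (congrArg (fun f : T.left ⟶ X => f t) (Over.w g.hom)).symm.trans (Scheme.Hom.comp_apply _ _ _)
      have key : ∀ (i : Fin (Fintype.card (EtPic3.MaxPts X))) (h1 : T.hom t = (EtPic3.maxPt X i).1)
          (h2 : U.hom (g.left t) = (EtPic3.maxPt X i).1),
          valη h1 (prJ X i T ((EtPic3.genUnits X).obj.map g.op s)) = auMap g.left t (valη h2 (prJ X i U s)) :=
        fun i h1 h2 => by
          rw [← valη_map g h1 h2]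
          exact congrArg _ (NatTrans.naturality_apply
            (biproduct.π (fun i : Fin (Fintype.card (EtPic3.MaxPts X)) => Jη (EtPic3.maxPt X i).1) i).hom g.op s)
      refine (key _ (hom_eq_maxPt X T t ht) (hi ▸ hom_eq_maxPt X U (g.left t) hgt)).trans ?_
      congr 1
      revert hi
      generalize idxMax X T t ht = i
      rintro rfl
      rfl
    val_toJ := fun U w hw a => by
      show valη _ ((biproduct.π (fun i : Fin (Fintype.card (EtPic3.MaxPts X)) => Jη (EtPic3.maxPt X i).1) (idxMax X U w hw)).hom.app (op U) ((EtPic3.toGen X).hom.app (op U) (ε U (Additive.ofMul a)))) = _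
      rw [← ConcreteCategory.comp_apply, ← NatTrans.comp_app]
      show valη _ ((EtPic3.toGen X ≫ biproduct.π _ _).hom.app (op U) (ε U (Additive.ofMul a))) = _
      rw [EtPic3.toGen, biproduct.lift_π]
      exact valη_GmPush (hom_eq_maxPt X U w hw) a
    ext := fun U s h => by
      have hz : ∀ i, prJ X i U s = 0 := fun i => valη_ext (EtPic3.maxPt X i).2 _ fun w hw => by
        have hw' : IsMaxPt U.left w := isMaxPt_of_hom U (hw ▸ (EtPic3.maxPt X i).2)
        obtain rfl : idxMax X U w hw' = i := by
          rw [idxMax, Equiv.apply_eq_iff_eq_symm_apply]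
          exact Subtype.ext hw
        exact h w hw'
      have e := congrArg (fun φ : EtPic3.genUnits X ⟶ EtPic3.genUnits X => φ.hom.app (op U) s)
        (biproduct.total (f := fun i : Fin (Fintype.card (EtPic3.MaxPts X)) => Jη (EtPic3.maxPt X i).1))
      refine e.symm.trans ?_
      let ev : (EtPic3.genUnits X ⟶ EtPic3.genUnits X) →+ (EtPic3.genUnits X).obj.obj (op U) :=
        AddMonoidHom.mk' (fun φ => φ.hom.app (op U) s) fun _ _ => rfl
      show ev _ = 0
      rw [map_sum]
      refine Finset.sum_eq_zero fun i _ => ?_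
      show (biproduct.ι (fun i : Fin (Fintype.card (EtPic3.MaxPts X)) => Jη (EtPic3.maxPt X i).1) i).hom.app (op U) (prJ X i U s) = 0
      rw [hz, map_zero]
    surj := fun U w hw hu b => by
      let i := idxMax X U w hw
      obtain ⟨t, ht⟩ := valη_surjective (EtPic3.maxPt X i).2 (hom_eq_maxPt X U w hw)
        (fun w' hw' => hu w' (isMaxPt_of_hom U (hw' ▸ (EtPic3.maxPt X i).2))) b
      refine ⟨(biproduct.ι (fun i : Fin (Fintype.card (EtPic3.MaxPts X)) => Jη (EtPic3.maxPt X i).1) i).hom.app (op U) t, ?_⟩
      show valη _ ((biproduct.π (fun i : Fin (Fintype.card (EtPic3.MaxPts X)) => Jη (EtPic3.maxPt X i).1) i).hom.app (op U) ((biproduct.ι (fun i : Fin (Fintype.card (EtPic3.MaxPts X)) => Jη (EtPic3.maxPt X i).1) i).hom.app (op U) t)) = b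
      rw [← ConcreteCategory.comp_apply, ← NatTrans.comp_app]
      show valη _ ((biproduct.ι (fun i : Fin (Fintype.card (EtPic3.MaxPts X)) => Jη (EtPic3.maxPt X i).1) i ≫
        biproduct.π _ i).hom.app (op U) t) = b
      rw [biproduct.ι_π_self]
      exact ht }

end Noeth

end Groth.Agent.EtDiv3
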