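import Groth.Agent.Lib.EtDiv3.Nbhd

/-!
# Local structure of divisors of generic units
-/

universe u

set_option autoImplicit false
set_option linter.style.haveILetI false
set_option backward.isDefEq.respectTransparency false
set_option backward.isDefEq.respectTransparency.types false

open CategoryTheory CategoryTheory.Limits AlgebraicGeometry Opposite TopologicalSpace IsLocalRing
open Groth.Agent.EtSite (sub subHom)
open Groth.Agent.EtPic3 (IsMaxPt ε)

namespace Groth.Agent.EtDiv3

section Scheme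

variable {U : Scheme.{u}} [Factorial U] [IsLocallyNoetherian U]

theorem isHt1_of_height {v : U} (P : PrimeSpectrum (U.presheaf.stalk v)) (h : P.asIdeal.height = 1) :
    IsHt1 (ptOf v P) := by
  rw [IsHt1, ringKrullDim_ptOf (ptOf_specializes v P), primeOf_ptOf, h]
  rfl

theorem height_of_isHt1 {q v : U} (hs : q ⤳ v) (hq : IsHt1 q) : (primeOf hs).asIdeal.height = 1 := by
  have h := (ringKrullDim_ptOf hs).symm.trans hq
  exact_mod_cast h

/-- An element of the field of fractions at `v` seen at a generalization. -/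
noncomputable abbrev toGenOf {q v : U} (hs : q ⤳ v) : AU (gen v) →+ AU (gen q) :=
  auCast (gen_eq_of_specializes hs).symm

theorem algebraMap_specializes {q v : U} (hs : q ⤳ v) (a : U.presheaf.stalk v) :
    algebraMap (U.presheaf.stalk q) (K q) (U.presheaf.stalkSpecializes hs a) =
      U.presheaf.stalkSpecializes (specializes_of_eq (gen_eq_of_specializes hs))
        (algebraMap (U.presheaf.stalk v) (K v) a) :=
by
  show U.presheaf.stalkSpecializes (gen_specializes q) (U.presheaf.stalkSpecializes hs a) =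
    U.presheaf.stalkSpecializes _ (U.presheaf.stalkSpecializes (gen_specializes v) a)
  rw [TopCat.Presheaf.stalkSpecializes_comp_apply, TopCat.Presheaf.stalkSpecializes_comp_apply]

theorem toGenOf_coe {q v : U} (hs : q ⤳ v) (b : AU (gen v)) :
    (Additive.toMul (toGenOf hs b)).1 =
      U.presheaf.stalkSpecializes (specializes_of_eq (gen_eq_of_specializes hs)) (Additive.toMul b).1 :=
  rfl

/-- An element with all orders zero near `v` is a unit at `v`. -/
theorem exists_unit_of_dAdd_zero (v : U) (b : AU (gen v))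
    (h : ∀ (q : U) (hq : IsHt1 q) (hs : q ⤳ v), dAdd q hq (toGenOf hs b) = 0) :
    ∃ e : (U.presheaf.stalk v)ˣ, (Additive.toMul b).1 = algebraMap (U.presheaf.stalk v) (K v) e := by
  refine exists_unit_of_units_at_height_one (U.presheaf.stalk v) (K := K v) (Additive.toMul b) fun P hP hP1 => ?_
  let q := ptOf v ⟨P, hP⟩
  have hs : q ⤳ v := ptOf_specializes v _
  have hq : IsHt1 q := isHt1_of_height _ hP1
  haveI := isDVR_of_ht1 hq
  obtain ⟨e, he⟩ := exists_unit_of_dord_eq_zero (U.presheaf.stalk q) ((dAdd_apply q hq _).symm.trans (h q hq hs))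
  letI := (U.presheaf.stalkSpecializes hs).hom.toAlgebra
  haveI := isLocalization_primeOf hs
  obtain ⟨⟨a, c⟩, hac⟩ := IsLocalization.surj (primeOf hs).asIdeal.primeCompl (e : U.presheaf.stalk q)
  have hPP : (primeOf hs).asIdeal = P := congrArg PrimeSpectrum.asIdeal (primeOf_ptOf v ⟨P, hP⟩)
  have hc : (c : U.presheaf.stalk v) ∉ P := fun hm => c.2 ((SetLike.ext_iff.1 hPP _).2 hm)
  have ha : a ∉ P := fun hm => by
    have hu : IsUnit (algebraMap (U.presheaf.stalk v) (U.presheaf.stalk q) a) := by
      rw [← hac]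
      exact e.isUnit.mul (IsLocalization.map_units _ c)
    exact ((IsLocalization.AtPrime.isUnit_to_map_iff (U.presheaf.stalk q) (primeOf hs).asIdeal a).1 hu)
      (show a ∈ (primeOf hs).asIdeal by rw [hPP]; exact hm)
  refine ⟨a, c, ha, hc, ?_⟩
  have e1 := congrArg (algebraMap (U.presheaf.stalk q) (K q)) hac
  rw [map_mul, ← he, toGenOf_coe] at e1
  haveI : IsIso (U.presheaf.stalkSpecializes (specializes_of_eq (gen_eq_of_specializes hs))) :=
    (U.presheaf.stalkCongr (Inseparable.of_eq (gen_eq_of_specializes hs).symm)).isIso_hom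
  refine (ConcreteCategory.bijective_of_isIso
    (U.presheaf.stalkSpecializes (specializes_of_eq (gen_eq_of_specializes hs)))).1 ?_
  rw [map_mul]
  show _ = _
  rw [← algebraMap_specializes hs, ← algebraMap_specializes hs]
  exact e1

/-- The prime element defining a point of codimension one generalizing `v`. -/
theorem exists_uniformizer {q v : U} (hs : q ⤳ v) (hq : IsHt1 q) :
    ∃ β : AU (gen v), ∀ (q' : U) (hq' : IsHt1 q') (hs' : q' ⤳ v),
      (q' = q → dAdd q' hq' (toGenOf hs' β) = 1) ∧ (q' ≠ q → dAdd q' hq' (toGenOf hs' β) = 0) := by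
  obtain ⟨π, hπ, hP⟩ := exists_prime_of_height_one _ (primeOf hs).asIdeal (height_of_isHt1 hs hq)
  have h0 : algebraMap (U.presheaf.stalk v) (K v) π ≠ 0 :=
    (map_ne_zero_iff _ (IsFractionRing.injective _ _)).2 hπ.ne_zero
  refine ⟨Additive.ofMul (Units.mk0 _ h0), fun q' hq' hs' => ?_⟩
  haveI := isDVR_of_ht1 hq'
  have hx : (Additive.toMul (toGenOf hs' (Additive.ofMul (Units.mk0 _ h0))) : (K q')ˣ).1 =
      algebraMap (U.presheaf.stalk q') (K q') (U.presheaf.stalkSpecializes hs' π) :=
    (algebraMap_specializes hs' π).symm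
  letI := (U.presheaf.stalkSpecializes hs').hom.toAlgebra
  haveI := isLocalization_primeOf hs'
  constructor
  · intro e
    subst e
    rw [dAdd_apply]
    refine dord_irreducible _ ?_ hx
    rw [IsDiscreteValuationRing.irreducible_iff_uniformizer]
    refine (IsLocalization.AtPrime.map_eq_maximalIdeal (primeOf hs').asIdeal (U.presheaf.stalk q')).symm.trans ?_
    rw [hP, Ideal.map_span, Set.image_singleton]
    rfl
  · intro hne
    have hπ' : π ∉ (primeOf hs').asIdeal := fun hm => hne <| by
      have hle : (primeOf hs).asIdeal ≤ (primeOf hs').asIdeal := by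
        rw [hP, Ideal.span_singleton_le_iff_mem]
        exact hm
      have heq : (primeOf hs).asIdeal = (primeOf hs').asIdeal := Ideal.eq_of_le_of_height_le _ hle
        (by rw [height_of_isHt1 hs hq, height_of_isHt1 hs' hq'])
      rw [← ptOf_primeOf hs', ← PrimeSpectrum.ext heq, ptOf_primeOf hs]
    have hu : IsUnit (U.presheaf.stalkSpecializes hs' π) :=
      IsLocalization.map_units (U.presheaf.stalk q') (⟨π, hπ'⟩ : (primeOf hs').asIdeal.primeCompl)
    rw [dAdd_apply]
    exact dord_algebraMap_unit _ hu.unit hx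

end Scheme

variable {X : Scheme.{u}} [IsLocallyNoetherian X] [EtFactorial X] (G : GenUnits X)

theorem ordAt_of_specializes (U : X.Etale) {q v : U.left} (hs : q ⤳ v) (hq : IsHt1 q)
    (f : G.J.obj.obj (op U)) :
    ordAt G U q hq f = dAdd q hq (toGenOf hs (G.val U (gen v) (isMaxPt_gen v) f)) := by
  rw [toGenOf, val_congr G U (gen_eq_of_specializes hs).symm (isMaxPt_gen v) (isMaxPt_gen q)]
  rfl

theorem germ_spread {U : Scheme.{u}} (W : U.Opens) {v w : U} (hv : v ∈ W) (hw : w ∈ W) (hs : w ⤳ v)
    (a : Γ(W.toScheme, ⊤)) (e : U.presheaf.stalk v)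
    (h : W.toScheme.presheaf.germ ⊤ (⟨v, hv⟩ : W) trivial a = W.ι.stalkMap (⟨v, hv⟩ : W) e) :
    W.toScheme.presheaf.germ ⊤ (⟨w, hw⟩ : W) trivial a =
      W.ι.stalkMap (⟨w, hw⟩ : W) (U.presheaf.stalkSpecializes hs e) := by
  have hs' : (⟨w, hw⟩ : W) ⤳ (⟨v, hv⟩ : W) := (subtype_specializes_iff _ _).2 hs
  rw [← TopCat.Presheaf.germ_stalkSpecializes_apply W.toScheme.presheaf (U := ⊤) (y := (⟨v, hv⟩ : W)) trivial hs' a,
    h]
  exact (Scheme.Hom.stalkSpecializes_stalkMap_apply W.ι (⟨w, hw⟩ : W) (⟨v, hv⟩ : W) hs' e).symm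

/-- On an object with one maximal point a generic unit with orders zero near `v` is a unit near `v`. -/
theorem exists_toJ_eq {U : X.Etale} {v : U.left} (hU : OneGen U.left (gen v)) (f : G.J.obj.obj (op U))
    (h : ∀ (q : U.left) (hq : IsHt1 q), q ⤳ v → ordAt G U q hq f = 0) :
    ∃ (W : U.left.Opens) (_ : v ∈ W) (a : (EtCoh.Gm X).obj.obj (op (sub U W))),
      G.toJ.hom.app (op (sub U W)) a = G.J.obj.map (subHom U W).op f := by
  obtain ⟨e, he⟩ := exists_unit_of_dAdd_zero v (G.val U (gen v) (isMaxPt_gen v) f) fun q hq hs => by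
    rw [← ordAt_of_specializes G U hs hq]
    exact h q hq hs
  obtain ⟨W, hv, a, ha⟩ := exists_unit_germ v e
  refine ⟨W, hv, ε (sub U W) (Additive.ofMul a), ?_⟩
  have hw : gen v ∈ W := (gen_specializes v).mem_open W.isOpen hv
  have hone := oneGen_sub U W (gen v) hw (isMaxPt_gen v) fun w' _ hw' => hU.2 w' hw'
  refine eq_of_oneGen G hone ?_
  rw [G.val_toJ, G.val_map (subHom U W) (⟨gen v, hw⟩ : W) hone.1 (isMaxPt_gen v)]
  refine Additive.toMul.injective (Units.ext ?_)
  show (sub U W).left.presheaf.germ ⊤ (⟨gen v, hw⟩ : W) trivial a.1 = W.ι.stalkMap (⟨gen v, hw⟩ : W) _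
  exact (germ_spread W hv hw (gen_specializes v) a.1 e.1 ha).trans (congrArg _ he.symm)

/-- The orders of a generic unit have finite support on a noetherian space with one maximal point. -/
theorem finite_support {U : X.Etale} [NoetherianSpace U.left] {w : U.left} (hU : OneGen U.left w)
    (f : G.J.obj.obj (op U)) : {q : U.left | ∃ hq : IsHt1 q, ordAt G U q hq f ≠ 0}.Finite := by
  obtain ⟨W, hw, a, ha⟩ := exists_unit_germ w (Additive.toMul (G.val U w hU.1 f))
  have hone := oneGen_sub U W w hw hU.1 fun w' _ hw' => hU.2 w' hw'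
  have heq : G.J.obj.map (subHom U W).op f = G.toJ.hom.app (op (sub U W)) (ε (sub U W) (Additive.ofMul a)) := by
    refine eq_of_oneGen G hone ?_
    rw [G.val_toJ, G.val_map (subHom U W) (⟨w, hw⟩ : W) hone.1 hU.1]
    exact Additive.toMul.injective (Units.ext ha.symm)
  have hC : IsClosed ((W : Set U.left)ᶜ) := W.isOpen.isClosed_compl
  obtain ⟨S, hSfin, hScl, hSirr, hSC⟩ := NoetherianSpace.exists_finite_set_isClosed_irreducible hC
  refine ((hSfin.subset (fun Z (hZ : Z ∈ S) => hZ)).biUnion (t := fun Z => {q | IsGenericPoint q Z})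
    fun Z hZ => ?_).subset fun q hq => ?_
  · refine Set.Subsingleton.finite fun x hx y hy => IsGenericPoint.eq hx hy
  · obtain ⟨hq, hne⟩ := hq
    have hqW : q ∉ W := fun hqW => hne (by
      let z : (sub U W).left := (⟨q, hqW⟩ : W)
      have hq' : IsHt1 z := (isHt1_map (subHom U W) z).2 hq
      exact (ordAt_map G (subHom U W) z hq' hq f).symm.trans (by rw [heq, ordAt_toJ]))
    obtain ⟨Z, hZ, hqZ⟩ := Set.mem_sUnion.1 (hSC.symm ▸ (hqW : q ∈ (W : Set U.left)ᶜ) : q ∈ ⋃₀ S)
    refine Set.mem_biUnion hZ ?_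
    obtain ⟨z, hz⟩ := QuasiSober.sober (hSirr Z hZ) (hScl Z hZ)
    have hzq : z ⤳ q := hz.specializes hqZ
    suffices z = q by exact this ▸ hz
    by_contra hne'
    have hP : (primeOf hzq).asIdeal < maximalIdeal (U.left.presheaf.stalk q) :=
      lt_of_le_of_ne (le_maximalIdeal (primeOf hzq).2.ne_top) fun e => hne' <| by
        rw [← ptOf_primeOf hzq, show primeOf hzq = closedPoint _ from PrimeSpectrum.ext e]
        exact Scheme.fromSpecStalk_closedPoint
    have h0 := Ideal.height_strict_mono_of_isPrime hP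
    rw [show (maximalIdeal (U.left.presheaf.stalk q)).height = 1 from by
      have h := maximalIdeal_height_eq_ringKrullDim (R := U.left.presheaf.stalk q)
      rw [show ringKrullDim (U.left.presheaf.stalk q) = 1 from hq] at h
      exact_mod_cast h, Order.lt_one_iff] at h0
    have hmax : IsMaxPt U.left z := (isMaxPt_iff z).2 (by rw [ringKrullDim_ptOf hzq, h0]; rfl)
    have hzW : z ∉ W := fun hzW => (hSC.symm.subset (Set.mem_sUnion.2 ⟨Z, hZ, hz.mem⟩) :) hzW
    exact hzW (hU.2 z hmax ▸ hw)

end Groth.Agent.EtDiv3
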