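import Groth.Agent.Lib.EtDiv3.GenUnits
import Groth.Agent.Lib.EtStalk.FiniteSplit

/-!
# Orders of generic units and small neighbourhoods
-/

universe u

set_option autoImplicit false
set_option linter.style.haveILetI false
set_option backward.isDefEq.respectTransparency false
set_option backward.isDefEq.respectTransparency.types false

open CategoryTheory CategoryTheory.Limits AlgebraicGeometry Opposite TopologicalSpace IsLocalRing
open Groth.Agent.EtSite (sub subHom)
open Groth.Agent.EtPic3 (IsMaxPt ε)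

namespace Groth.Agent.EtDiv3

variable {X : Scheme.{u}} [IsLocallyNoetherian X] [EtFactorial X]

instance (U : X.Etale) : IsLocallyNoetherian U.left := isLocallyNoetherian_left U

instance (U : X.Etale) (W : U.left.Opens) : Factorial W.toScheme := EtFactorial.factorial (sub U W)

theorem etale_left {T U : X.Etale} (g : T ⟶ U) : AlgebraicGeometry.Etale g.left :=
  EtStalk.etale_left g

/-- Orders of units of the function field. -/
noncomputable def dAdd {U : Scheme.{u}} [Factorial U] [IsLocallyNoetherian U] (u : U) (hu : IsHt1 u) :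
    AU (gen u) →+ ℤ :=
  haveI := isDVR_of_ht1 hu
  AddMonoidHom.mk' (fun b => dord (U.presheaf.stalk u) (Additive.toMul b : (K u)ˣ)) fun a b => dord_mul _ _ _

theorem dAdd_apply {U : Scheme.{u}} [Factorial U] [IsLocallyNoetherian U] (u : U) (hu : IsHt1 u) (b : AU (gen u)) :
    haveI := isDVR_of_ht1 hu
    dAdd u hu b = dord (U.presheaf.stalk u) (Additive.toMul b : (K u)ˣ) := rfl

/-- Transport of a unit to an equal point. -/
noncomputable def auCast {U : Scheme.{u}} {w w' : U} (e : w = w') : AU w →+ AU w' :=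
  (Units.map (U.presheaf.stalkSpecializes (e ▸ specializes_rfl : w' ⤳ w)).hom.toMonoidHom).toAdditive

theorem dAdd_map {T U : X.Etale} (g : T ⟶ U) (t : T.left) (ht : IsHt1 t) (hgt : IsHt1 (g.left t))
    (w : U.left) (e : g.left (gen t) = w) (e' : w = gen (g.left t)) (b : AU (g.left (gen t))) :
    dAdd t ht (auMap g.left (gen t) b) = dAdd (g.left t) hgt (auCast (e.trans e') b) := by
  haveI := etale_left g
  haveI := isDVR_of_ht1 ht
  haveI := isDVR_of_ht1 hgt
  rw [dAdd_apply, dAdd_apply]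
  let ψ : K (g.left t) →+* K t :=
    ((g.left.stalkMap (gen t)).hom).comp
      (U.left.presheaf.stalkSpecializes (specializes_of_eq (e.trans e')) : U.left.presheaf.stalk (gen (g.left t)) ⟶ _).hom
  have hψ : (Additive.toMul (auMap g.left (gen t) b) : (K t)ˣ) =
      Units.map ψ.toMonoidHom (Additive.toMul (auCast (e.trans e') b) : (K (g.left t))ˣ) := by
    refine Units.ext ?_
    show g.left.stalkMap (gen t) (Additive.toMul b).1 =
      g.left.stalkMap (gen t) ((U.left.presheaf.stalkSpecializes _) ((U.left.presheaf.stalkSpecializes _) (Additive.toMul b).1))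
    rw [TopCat.Presheaf.stalkSpecializes_comp_apply, TopCat.Presheaf.stalkSpecializes_refl]
    rfl
  rw [hψ]
  refine dord_map _ (g.left.stalkMap t).hom ψ (fun r => ?_) (map_maximalIdeal g.left t) _
  show g.left.stalkMap (gen t) ((U.left.presheaf.stalkSpecializes _) ((U.left.presheaf.stalkSpecializes _) r)) =
    T.left.presheaf.stalkSpecializes _ (g.left.stalkMap t r)
  rw [TopCat.Presheaf.stalkSpecializes_comp_apply]
  exact Scheme.Hom.stalkSpecializes_stalkMap_apply g.left (gen t) t (gen_specializes t) r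

variable (G : GenUnits X)

/-- The order of a generic unit at a point of codimension one. -/
noncomputable def ordAt (U : X.Etale) (u : U.left) (hu : IsHt1 u) : G.J.obj.obj (op U) →+ ℤ :=
  (dAdd u hu).comp (G.val U (gen u) (isMaxPt_gen u))

theorem val_congr (U : X.Etale) {w w' : U.left} (e : w = w') (hw : IsMaxPt U.left w) (hw' : IsMaxPt U.left w')
    (s : G.J.obj.obj (op U)) : auCast e (G.val U w hw s) = G.val U w' hw' s := by
  subst e
  refine Additive.toMul.injective (Units.ext ?_)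
  show U.left.presheaf.stalkSpecializes _ (Additive.toMul (G.val U w hw s)).1 = _
  rw [TopCat.Presheaf.stalkSpecializes_refl]
  rfl

theorem isHt1_map {T U : X.Etale} (g : T ⟶ U) (t : T.left) : IsHt1 t ↔ IsHt1 (g.left t) := by
  haveI := etale_left g
  rw [IsHt1, IsHt1, ringKrullDim_map g.left]

theorem isHt1_hom (U : X.Etale) (u : U.left) : IsHt1 u ↔ IsHt1 (U.hom u) := by
  let f : U.left ⟶ X := U.hom
  haveI : AlgebraicGeometry.Etale f := U.prop
  show IsHt1 u ↔ IsHt1 (f u)
  rw [IsHt1, IsHt1, ringKrullDim_map f]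

theorem ordAt_map {T U : X.Etale} (g : T ⟶ U) (t : T.left) (ht : IsHt1 t) (hgt : IsHt1 (g.left t))
    (s : G.J.obj.obj (op U)) : ordAt G T t ht (G.J.obj.map g.op s) = ordAt G U (g.left t) hgt s := by
  haveI := etale_left g
  have e : g.left (gen t) = gen (g.left t) := map_gen g.left t
  have hw : IsMaxPt U.left (g.left (gen t)) := e ▸ isMaxPt_gen _
  show dAdd t ht (G.val T (gen t) _ (G.J.obj.map g.op s)) = dAdd (g.left t) hgt _
  rw [G.val_map g (gen t) _ hw, dAdd_map g t ht hgt _ rfl e, val_congr G U e hw (isMaxPt_gen _)]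

theorem germ_gen {U : Scheme.{u}} [Factorial U] (u : U) (a : Γ(U, ⊤)) :
    U.presheaf.germ ⊤ (gen u) trivial a = algebraMap (U.presheaf.stalk u) (K u) (U.presheaf.germ ⊤ u trivial a) :=
  (TopCat.Presheaf.germ_stalkSpecializes_apply U.presheaf (U := ⊤) (y := u) trivial (gen_specializes u) a).symm

theorem ordAt_toJ (U : X.Etale) (u : U.left) (hu : IsHt1 u) (s : (EtCoh.Gm X).obj.obj (op U)) :
    ordAt G U u hu (G.toJ.hom.app (op U) s) = 0 := by
  obtain ⟨a, rfl⟩ := EtPic3.ε_surjective U s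
  haveI := isDVR_of_ht1 hu
  show dAdd u hu (G.val U (gen u) _ (G.toJ.hom.app (op U) (ε U a))) = 0
  rw [show ε U a = ε U (Additive.ofMul (Additive.toMul a)) from rfl, G.val_toJ, dAdd_apply]
  exact dord_algebraMap_unit _ (Units.map (U.left.presheaf.germ ⊤ u trivial).hom.toMonoidHom (Additive.toMul a))
    (germ_gen u _)

/-- Only one maximal point. -/
def OneGen (U : Scheme.{u}) (w : U) : Prop := IsMaxPt U w ∧ ∀ w', IsMaxPt U w' → w' = w

theorem oneGen_gen_eq {U : Scheme.{u}} [Factorial U] {w : U} (h : OneGen U w) (u : U) : gen u = w :=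
  h.2 _ (isMaxPt_gen u)

theorem isMaxPt_sub_iff (U : X.Etale) (W : U.left.Opens) (a : W.toScheme) :
    IsMaxPt W.toScheme a ↔ IsMaxPt U.left (W.ι a) := by
  constructor
  · intro h
    refine isMaxPt_of_hom U ?_
    have := isMaxPt_hom (sub U W) (w := a) h
    rwa [show U.hom (W.ι a) = (sub U W).hom a from (Scheme.Hom.comp_apply _ _ _).symm]
  · intro h
    refine isMaxPt_of_hom (sub U W) (w := a) ?_
    have := isMaxPt_hom U h
    rwa [show (sub U W).hom a = U.hom (W.ι a) from (Scheme.Hom.comp_apply _ _ _)]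

/-- Small neighbourhoods: one generic point and noetherian. -/
theorem exists_nhd (U : X.Etale) (v : U.left) (A₀ : U.left.Opens) (hv : v ∈ A₀) :
    ∃ W : U.left.Opens, v ∈ W ∧ W ≤ A₀ ∧ NoetherianSpace W ∧ gen v ∈ W ∧
      ∀ w ∈ W, IsMaxPt U.left w → w = gen v := by
  obtain ⟨A, hA, hvA, hle⟩ := exists_isAffineOpen_mem_and_subset (X := U.left) (x := v) (U := A₀) hv
  haveI : IsAffine A.toScheme := hA
  haveI : IsNoetherian A.toScheme := { }
  haveI := EtPic3.finite_maxPts A.toScheme
  let S : Set A.toScheme := {a | IsMaxPt A.toScheme a ∧ A.ι a ≠ gen v}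
  have hS : S.Finite := (Set.finite_range (fun a : {η : A.toScheme // IsMaxPt A.toScheme η} => a.1)).subset
    fun a ha => ⟨⟨a, ha.1⟩, rfl⟩
  let Z : Set U.left := ⋃ a ∈ S, closure {A.ι a}
  have hZ : IsClosed Z := hS.isClosed_biUnion fun _ _ => isClosed_closure
  have hvZ : v ∉ Z := fun h => by
    obtain ⟨a, ha, hcl⟩ := Set.mem_iUnion₂.1 h
    exact ha.2 (gen_unique ((isMaxPt_sub_iff U A a).1 ha.1) (specializes_iff_mem_closure.2 hcl))
  let W : U.left.Opens := A ⊓ ⟨Zᶜ, hZ.isOpen_compl⟩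
  haveI : NoetherianSpace A := IsNoetherian.noetherianSpace (X := A.toScheme)
  have hWA : W ≤ A := inf_le_left
  refine ⟨W, ⟨hvA, hvZ⟩, hWA.trans hle, ?_, (gen_specializes v).mem_open W.isOpen ⟨hvA, hvZ⟩, fun w hw hmax => ?_⟩
  · exact @Topology.IsInducing.noetherianSpace _ _ _ _ ‹_› (fun a : W => (⟨a.1, hWA a.2⟩ : A))
      ((Topology.IsEmbedding.inclusion hWA).isInducing)
  · by_contra hne
    refine hw.2 (Set.mem_biUnion (x := (⟨w, hw.1⟩ : A)) ⟨(isMaxPt_sub_iff U A _).2 hmax, hne⟩ ?_)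
    exact subset_closure rfl

theorem oneGen_sub (U : X.Etale) (W : U.left.Opens) (w : U.left) (hw : w ∈ W) (hmax : IsMaxPt U.left w)
    (h : ∀ w' ∈ W, IsMaxPt U.left w' → w' = w) : OneGen (sub U W).left (⟨w, hw⟩ : W) :=
  ⟨(isMaxPt_sub_iff U W _).2 hmax, fun a ha => Subtype.ext (h a.1 a.2 ((isMaxPt_sub_iff U W a).1 ha))⟩

omit [IsLocallyNoetherian X] [EtFactorial X] in
theorem eq_of_oneGen {U : X.Etale} {w : U.left} (hU : OneGen U.left w) {s t : G.J.obj.obj (op U)}
    (h : G.val U w hU.1 s = G.val U w hU.1 t) : s = t := by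
  refine sub_eq_zero.1 (G.ext U _ fun w' hw' => ?_)
  obtain rfl := hU.2 w' hw'
  rw [map_sub, h, sub_self]

omit [IsLocallyNoetherian X] [EtFactorial X] in
theorem exists_val {U : X.Etale} {w : U.left} (hU : OneGen U.left w) (b : AU w) :
    ∃ s, G.val U w hU.1 s = b := G.surj U w hU.1 hU.2 b

/-- A unit germ extends to a unit near the point. -/
theorem exists_unit_germ {U : Scheme.{u}} (v : U) (ε' : (U.presheaf.stalk v)ˣ) :
    ∃ (W : U.Opens) (hv : v ∈ W) (a : Γ(W.toScheme, ⊤)ˣ),
      W.toScheme.presheaf.germ ⊤ (⟨v, hv⟩ : W) trivial a.1 = (W.ι.stalkMap (⟨v, hv⟩ : W)) ε'.1 := by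
  obtain ⟨O, hvO, b, hb⟩ := U.presheaf.exists_germ_eq (x := v) ε'.1
  let W := U.basicOpen b
  have hvW : v ∈ W := (U.mem_basicOpen b v hvO).2 (hb ▸ ε'.isUnit)
  have hWO : W ≤ O := U.basicOpen_le b
  have hu : IsUnit (W.ι.appLE O ⊤ (fun x _ => hWO x.2) b) := by
    have h1 : IsUnit (U.presheaf.map (homOfLE hWO).op b) := RingedSpace.isUnit_res_basicOpen U.toRingedSpace b
    have := h1.map (W.ι.appLE W ⊤ (fun x _ => x.2)).hom
    rwa [← CommRingCat.comp_apply, Scheme.Hom.map_appLE] at this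
  refine ⟨W, hvW, hu.unit, ?_⟩
  show W.toScheme.presheaf.germ ⊤ _ trivial (W.ι.appLE O ⊤ _ b) = _
  rw [← hb, Scheme.Hom.appLE, CommRingCat.comp_apply, TopCat.Presheaf.germ_res_apply]
  exact (Scheme.Hom.germ_stalkMap_apply W.ι O (⟨v, hvW⟩ : W) hvO b).symm

end Groth.Agent.EtDiv3
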