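import Groth.Agent.Lib.EtDiv3.DVR
import Groth.Agent.Lib.EtPic3.CurveGm
import Groth.Agent.Lib.Cyc26.PullDiv
import Groth.Agent.Lib.Weight4.Mult
import Groth.Agent.Lib.RegLoc.Unramified

/-!
# Generic points and points of codimension one on schemes with factorial local rings
-/

universe u

set_option autoImplicit false
set_option linter.style.haveILetI false
set_option backward.isDefEq.respectTransparency.types false

open CategoryTheory AlgebraicGeometry IsLocalRing
open Groth.Agent.EtPic3 (IsMaxPt)

namespace Groth.Agent.EtDiv3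

theorem isField_of_dim_zero {R : Type u} [CommRing R] [IsDomain R] [IsLocalRing R] (h : ringKrullDim R = 0) :
    IsField R := by
  haveI : Ring.KrullDimLE 0 R := Ring.krullDimLE_iff.2 h.le
  exact isField_iff_maximalIdeal_eq.2 (eq_maximalIdeal (Ideal.isMaximal_of_isPrime (⊥ : Ideal R))).symm

/-- All local rings are factorial domains. -/
class Factorial (U : Scheme.{u}) : Prop where
  isDomain : ∀ u : U, IsDomain (U.presheaf.stalk u)
  ufd : ∀ u : U, UniqueFactorizationMonoid (U.presheaf.stalk u)

attribute [scoped instance] Factorial.isDomain Factorial.ufd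

variable {U : Scheme.{u}}

/-- The point of a prime of a local ring. -/
noncomputable def ptOf (u : U) (P : PrimeSpectrum (U.presheaf.stalk u)) : U := U.fromSpecStalk u P

theorem ptOf_specializes (u : U) (P : PrimeSpectrum (U.presheaf.stalk u)) : ptOf u P ⤳ u :=
  (Scheme.range_fromSpecStalk (X := U) (x := u)).subset ⟨P, rfl⟩

theorem ptOf_injective (u : U) : Function.Injective (ptOf u) := by
  haveI : IsPreimmersion (U.fromSpecStalk u) := IsAffineOpen.fromSpecStalk_isPreimmersion _ _ _
  exact (U.fromSpecStalk u).isEmbedding.injective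

/-- The prime of a generalization. -/
noncomputable def primeOf {u w : U} (h : w ⤳ u) : PrimeSpectrum (U.presheaf.stalk u) :=
  PrimeSpectrum.comap (U.presheaf.stalkSpecializes h).hom (closedPoint (U.presheaf.stalk w))

theorem ptOf_primeOf {u w : U} (h : w ⤳ u) : ptOf u (primeOf h) = w := by
  have h1 := congrArg (fun f : Spec (U.presheaf.stalk w) ⟶ U => f (closedPoint (U.presheaf.stalk w)))
    (Scheme.SpecMap_stalkSpecializes_fromSpecStalk h)
  simp only [Scheme.Hom.comp_apply, Scheme.fromSpecStalk_closedPoint] at h1
  exact h1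

theorem primeOf_ptOf (u : U) (P : PrimeSpectrum (U.presheaf.stalk u)) : primeOf (ptOf_specializes u P) = P :=
  ptOf_injective u (ptOf_primeOf _)

theorem ker_specMap {u w : U} (h : w ⤳ u) : RingHom.ker (Cyc.specMap u w h) = (primeOf h).asIdeal := by
  ext a
  show (U.residue w) ((U.presheaf.stalkSpecializes h) a) = 0 ↔ (U.presheaf.stalkSpecializes h) a ∈ maximalIdeal _
  exact residue_eq_zero_iff _

theorem isLocalization_primeOf {u w : U} (h : w ⤳ u) :
    letI := (U.presheaf.stalkSpecializes h).hom.toAlgebra
    IsLocalization.AtPrime (U.presheaf.stalk w) (primeOf h).asIdeal := by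
  letI := (U.presheaf.stalkSpecializes h).hom.toAlgebra
  have h1 := Cyc26.isLocalization_stalkSpecializes h
  have e : (RingHom.ker (Cyc.specMap u w h)).primeCompl = (primeOf h).asIdeal.primeCompl :=
    Submonoid.ext fun a => by
      show a ∉ RingHom.ker (Cyc.specMap u w h) ↔ a ∉ (primeOf h).asIdeal
      rw [ker_specMap]
  show IsLocalization (primeOf h).asIdeal.primeCompl _
  rw [← e]
  exact h1

theorem ringKrullDim_ptOf {u w : U} (h : w ⤳ u) :
    ringKrullDim (U.presheaf.stalk w) = (primeOf h).asIdeal.height := by
  letI := (U.presheaf.stalkSpecializes h).hom.toAlgebra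
  haveI := isLocalization_primeOf h
  exact IsLocalization.AtPrime.ringKrullDim_eq_height (primeOf h).asIdeal _

variable [Factorial U]

theorem isMaxPt_iff (w : U) : IsMaxPt U w ↔ ringKrullDim (U.presheaf.stalk w) = 0 := by
  constructor
  · intro hw
    haveI := EtPic3.subsingleton_spec_stalk hw
    haveI : Ring.KrullDimLE 0 (U.presheaf.stalk w) := Ring.krullDimLE_zero_iff.2 fun I hI => by
      have h2 : I = maximalIdeal (U.presheaf.stalk w) :=
        congrArg PrimeSpectrum.asIdeal (Subsingleton.elim (α := Spec (U.presheaf.stalk w)) ⟨I, hI⟩ (closedPoint _))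
      exact h2 ▸ maximalIdeal.isMaximal _
    exact (ringKrullDimZero_iff_ringKrullDim_eq_zero (R := U.presheaf.stalk w)).1 inferInstance
  · intro hd y hy
    have h0 := isField_iff_maximalIdeal_eq.1 (isField_of_dim_zero hd)
    have h1 : primeOf hy = closedPoint _ := by
      refine PrimeSpectrum.ext (le_antisymm (le_maximalIdeal (primeOf hy).2.ne_top) ?_)
      show maximalIdeal _ ≤ _
      rw [h0]
      exact bot_le
    rw [← ptOf_primeOf hy, h1]
    exact Scheme.fromSpecStalk_closedPoint

/-- The unique maximal generalization. -/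
noncomputable def gen (u : U) : U := ptOf u ⟨⊥, Ideal.isPrime_bot⟩

theorem gen_specializes (u : U) : gen u ⤳ u := ptOf_specializes u _

theorem primeOf_gen (u : U) : (primeOf (gen_specializes u)).asIdeal = ⊥ :=
  congrArg PrimeSpectrum.asIdeal (primeOf_ptOf u _)

theorem ringKrullDim_gen (u : U) : ringKrullDim (U.presheaf.stalk (gen u)) = 0 := by
  rw [ringKrullDim_ptOf (gen_specializes u), primeOf_gen, Ideal.height_bot]
  rfl

theorem isMaxPt_gen (u : U) : IsMaxPt U (gen u) := (isMaxPt_iff _).2 (ringKrullDim_gen u)

theorem gen_unique {u w : U} (hw : IsMaxPt U w) (h : w ⤳ u) : w = gen u := by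
  refine (hw (gen u) ?_).symm
  -- the generic point generalizes every point of the spectrum of the local ring
  rw [← ptOf_primeOf h]
  exact ((PrimeSpectrum.le_iff_specializes ⟨⊥, Ideal.isPrime_bot⟩ (primeOf h)).1 bot_le).map
    (U.fromSpecStalk u).continuous

theorem gen_of_isMaxPt {w : U} (hw : IsMaxPt U w) : gen w = w := hw _ (gen_specializes w)

theorem gen_eq_of_specializes {q u : U} (h : q ⤳ u) : gen q = gen u :=
  gen_unique (isMaxPt_gen q) ((gen_specializes q).trans h)

theorem isField_gen (u : U) : IsField (U.presheaf.stalk (gen u)) := by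
  exact isField_of_dim_zero (ringKrullDim_gen u)

/-- The field of fractions of a local ring. -/
abbrev K (u : U) : Type u := U.presheaf.stalk (gen u)

noncomputable instance instFieldK (u : U) : Field (K u) := (isField_gen u).toField

/-- The inclusion of a local ring into its field of fractions. -/
noncomputable instance instAlgK (u : U) : Algebra (U.presheaf.stalk u) (K u) :=
  (U.presheaf.stalkSpecializes (gen_specializes u)).hom.toAlgebra

instance instFracK (u : U) : IsFractionRing (U.presheaf.stalk u) (K u) := by
  have h := isLocalization_primeOf (gen_specializes u)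
  have e : (primeOf (gen_specializes u)).asIdeal.primeCompl = nonZeroDivisors (U.presheaf.stalk u) :=
    Submonoid.ext fun a => by
      rw [mem_nonZeroDivisors_iff_ne_zero]
      show a ∉ (primeOf (gen_specializes u)).asIdeal ↔ a ≠ 0
      rw [primeOf_gen, Ideal.mem_bot]
  show IsLocalization (nonZeroDivisors (U.presheaf.stalk u)) _
  rw [← e]
  exact h

/-- Points of codimension one. -/
def IsHt1 (u : U) : Prop := ringKrullDim (U.presheaf.stalk u) = 1

theorem isDVR_of_ht1 [IsLocallyNoetherian U] {u : U} (hu : IsHt1 u) :
    IsDiscreteValuationRing (U.presheaf.stalk u) := by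
  have h1 : (maximalIdeal (U.presheaf.stalk u)).height = 1 := by
    have h := maximalIdeal_height_eq_ringKrullDim (R := U.presheaf.stalk u)
    rw [show ringKrullDim (U.presheaf.stalk u) = 1 from hu] at h
    exact_mod_cast h
  obtain ⟨π, hπ, he⟩ := exists_prime_of_height_one _ _ h1
  haveI : IsPrincipalIdealRing (U.presheaf.stalk u) :=
    ((tfae_of_isNoetherianRing_of_isLocalRing_of_isDomain (R := U.presheaf.stalk u)).out 4 0).1
      (show (maximalIdeal (U.presheaf.stalk u)).IsPrincipal from ⟨⟨π, he⟩⟩)
  exact { not_a_field' := fun h => by rw [h, Ideal.height_bot] at h1; exact zero_ne_one h1 }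

section Etale

variable {T : Scheme.{u}} [IsLocallyNoetherian U] [IsLocallyNoetherian T] (h : T ⟶ U) [Etale h]

omit [Factorial U] [IsLocallyNoetherian U] [IsLocallyNoetherian T] in
theorem map_maximalIdeal (t : T) :
    (maximalIdeal (U.presheaf.stalk (h t))).map (h.stalkMap t).hom = maximalIdeal (T.presheaf.stalk t) :=
  Weight.map_maximalIdeal_stalkMap h t

omit [Factorial U] in
theorem ringKrullDim_map (t : T) :
    ringKrullDim (T.presheaf.stalk t) = ringKrullDim (U.presheaf.stalk (h t)) := by
  letI := (h.stalkMap t).hom.toAlgebra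
  haveI : IsLocalHom (algebraMap (U.presheaf.stalk (h t)) (T.presheaf.stalk t)) :=
    inferInstanceAs (IsLocalHom (h.stalkMap t).hom)
  haveI : Module.Flat (U.presheaf.stalk (h t)) (T.presheaf.stalk t) := Flat.stalkMap h t
  exact RegLoc.ringKrullDim_eq_of_map_maximalIdeal (map_maximalIdeal h t)

theorem map_gen [Factorial T] (t : T) : h (gen t) = gen (h t) := by
  refine gen_unique ((isMaxPt_iff _).2 ?_) ((gen_specializes t).map h.continuous)
  rw [← ringKrullDim_map h, ringKrullDim_gen]

end Etale

end Groth.Agent.EtDiv3
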